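import Mathlib

/-!
# Gluing cycles

`formPerm (l₁ ++ ⋯ ++ lᵣ) = formPerm [head l₁, …, head lᵣ] * (formPerm l₁ * ⋯ * formPerm lᵣ)`,
and block lists for a permutation and its square with the same heads.
-/

set_option autoImplicit false

namespace CfsgLib.Invol.AltPair

open Equiv Equiv.Perm

variable {α : Type*} [DecidableEq α]

/-- The concatenation of a list of blocks (head, tail). -/
def flat (bs : List (α × List α)) : List α := bs.flatMap fun b => b.1 :: b.2

/-- The product of the cycles of the blocks. -/
def cyProd (bs : List (α × List α)) : Perm α := (bs.map fun b => (b.1 :: b.2).formPerm).prod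

theorem glue_two : ∀ (A : List α) (a x : α) (B : List α), ((a :: A) ++ x :: B).Nodup →
    ((a :: A) ++ x :: B).formPerm = swap a x * (a :: A).formPerm * (x :: B).formPerm
  | [], a, x, B, _ => by simp [List.formPerm_cons_cons]
  | a' :: A, a, x, B, h => by
    have h' : ((a' :: A) ++ x :: B).Nodup := (List.nodup_cons.1 h).2
    show (a :: a' :: (A ++ x :: B)).formPerm = _
    rw [List.formPerm_cons_cons, List.formPerm_cons_cons a a',
      show (a' :: (A ++ x :: B)).formPerm = _ from glue_two A a' x B h']
    have hne : ∀ y ∈ (a' :: A) ++ x :: B, y ≠ a := fun y hy e => (List.nodup_cons.1 h).1 (e ▸ hy)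
    have h1 : a' ≠ a := hne a' (by simp)
    have h2 : x ≠ a := hne x (by simp)
    have h3 : x ≠ a' := fun e => (List.nodup_cons.1 h').1 (e ▸ by simp)
    have key : swap a a' * swap a' x = swap a x * swap a a' := by
      ext y
      simp only [Perm.mul_apply, swap_apply_def]
      split_ifs <;> simp_all
    calc swap a a' * (swap a' x * (a' :: A).formPerm * (x :: B).formPerm)
        = (swap a a' * swap a' x) * ((a' :: A).formPerm * (x :: B).formPerm) := by group
      _ = _ := by rw [key]; group

theorem flat_cons (b : α × List α) (bs : List (α × List α)) :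
    flat (b :: bs) = (b.1 :: b.2) ++ flat bs := rfl

theorem heads_subset (bs : List (α × List α)) : ∀ y ∈ bs.map Prod.fst, y ∈ flat bs := by
  intro y hy
  obtain ⟨b, hb, rfl⟩ := List.mem_map.1 hy
  exact List.mem_flatMap.2 ⟨b, hb, by simp⟩

theorem formPerm_flat [Fintype α] : ∀ bs : List (α × List α), (flat bs).Nodup →
    (flat bs).formPerm = (bs.map Prod.fst).formPerm * cyProd bs
  | [], _ => by simp [flat, cyProd]
  | [b], _ => by simp [flat, cyProd]
  | b :: c :: rest, h => by
    rw [flat_cons] at h
    have hd := (List.nodup_append.1 h)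
    have ih := formPerm_flat (c :: rest) hd.2.1
    rw [flat_cons b, flat_cons c,
      show (c.1 :: c.2) ++ flat rest = c.1 :: (c.2 ++ flat rest) from rfl] at *
    rw [glue_two b.2 b.1 c.1 (c.2 ++ flat rest) h, ih]
    have hdis : Perm.Disjoint (b.1 :: b.2).formPerm ((c :: rest).map Prod.fst).formPerm := by
      intro y
      by_cases hy : y ∈ b.1 :: b.2
      · refine Or.inr (List.formPerm_apply_of_notMem fun hy' => ?_)
        have := heads_subset (c :: rest) y hy'
        exact hd.2.2 y hy y (by simpa [flat] using this) rfl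
      · exact Or.inl (List.formPerm_apply_of_notMem hy)
    simp only [List.map_cons, List.formPerm_cons_cons, cyProd, List.prod_cons]
    have hc := hdis.commute.eq
    simp only [List.map_cons] at hc
    calc swap b.1 c.1 * (b.1 :: b.2).formPerm *
          ((c.1 :: List.map Prod.fst rest).formPerm *
            ((c.1 :: c.2).formPerm * (List.map (fun b => (b.1 :: b.2).formPerm) rest).prod))
        = swap b.1 c.1 * ((b.1 :: b.2).formPerm * (c.1 :: List.map Prod.fst rest).formPerm) *
            ((c.1 :: c.2).formPerm * (List.map (fun b => (b.1 :: b.2).formPerm) rest).prod) := by group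
      _ = _ := by rw [hc]; group

/-- A cycle through `x`, or the identity, as a block with head `x`. -/
theorem exists_block [Fintype α] (c : Perm α) (x : α) (hc : c = 1 ∨ (c.IsCycle ∧ x ∈ c.support)) :
    ∃ l : List α, (x :: l).Nodup ∧ (x :: l).toFinset = insert x c.support ∧ (x :: l).formPerm = c := by
  rcases hc with rfl | ⟨hc, hx⟩
  · exact ⟨[], by simp⟩
  · have hne : c.toList x ≠ [] := fun e => (Perm.toList_eq_nil_iff.1 e) hx
    obtain ⟨y, l, hl⟩ := List.exists_cons_of_ne_nil hne
    have hy : y = x := by
      have h0 := Perm.getElem_toList c x 0 (by rw [hl]; simp)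
      simpa [hl] using h0
    subst hy
    refine ⟨l, hl ▸ Perm.nodup_toList c y, ?_, ?_⟩
    · ext z
      rw [List.mem_toFinset, ← hl, Perm.mem_toList_iff, Finset.mem_insert]
      constructor
      · rintro ⟨h, -⟩; exact Or.inr ((Perm.mem_support.2 ((h.apply_eq_self_iff).not.1 (Perm.mem_support.1 hx))))
      · rintro (rfl | hz)
        · exact ⟨Perm.SameCycle.refl _ _, hx⟩
        · exact ⟨hc.sameCycle (Perm.mem_support.1 hx) (Perm.mem_support.1 hz), hx⟩
    · rw [← hl, Perm.formPerm_toList, hc.cycleOf_eq (Perm.mem_support.1 hx)]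

theorem flat_toFinset_cons (b : α × List α) (bs : List (α × List α)) :
    (flat (b :: bs)).toFinset = (b.1 :: b.2).toFinset ∪ (flat bs).toFinset := by
  rw [flat_cons, List.toFinset_append]

/-- Blocks for `r` and for `r * r` with the same heads, covering `S`. -/
theorem exists_blocks [Fintype α] : ∀ (N : ℕ) (S : Finset α) (r : Perm α), S.card = N →
    r.support ⊆ S → Odd (orderOf r) →
    ∃ bs bs2 : List (α × List α), bs.map Prod.fst = bs2.map Prod.fst ∧
      (flat bs).Nodup ∧ (flat bs).toFinset = S ∧ cyProd bs = r ∧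
      (flat bs2).Nodup ∧ (flat bs2).toFinset = S ∧ cyProd bs2 = r * r ∧
      (∀ b ∈ bs, Odd (b.1 :: b.2).length) := by
  intro N
  induction N using Nat.strong_induction_on with
  | _ N IH =>
  intro S r hN hsub hodd
  rcases S.eq_empty_or_nonempty with rfl | ⟨x, hx⟩
  · have hr : r = 1 := Perm.support_eq_empty_iff.1 (Finset.subset_empty.1 hsub)
    exact ⟨[], [], by simp [flat, cyProd, hr]⟩
  · set c := r.cycleOf x with hc
    have hoc : Odd (orderOf c) := hodd.of_dvd_nat (Perm.orderOf_cycleOf_dvd_orderOf r x)
    obtain ⟨k, hk⟩ := hoc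
    have hcc : (c * c) ^ (k + 1) = c := by
      rw [← pow_two, ← pow_mul, show 2 * (k + 1) = orderOf c + 1 by omega, pow_add, pow_orderOf_eq_one,
        one_mul, pow_one]
    have hcase : c = 1 ∨ (c.IsCycle ∧ x ∈ c.support) := by
      by_cases hrx : r x = x
      · exact Or.inl ((Perm.cycleOf_eq_one_iff r).2 hrx)
      · exact Or.inr ⟨Perm.isCycle_cycleOf r hrx, by
          rw [Perm.mem_support, hc, Perm.cycleOf_apply_self]; exact hrx⟩
    have hsupp2 : (c * c).support = c.support := by
      refine le_antisymm ?_ ?_
      · rw [← pow_two]; exact Perm.support_pow_le c 2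
      · conv_lhs => rw [← hcc]
        exact Perm.support_pow_le _ _
    have hcase2 : c * c = 1 ∨ ((c * c).IsCycle ∧ x ∈ (c * c).support) := by
      rcases hcase with h | ⟨h, hx'⟩
      · exact Or.inl (by rw [h, one_mul])
      · refine Or.inr ⟨Perm.IsCycle.of_pow (n := k + 1) (by rw [hcc]; exact h) ?_, by rwa [hsupp2]⟩
        rw [hcc, hsupp2]
    obtain ⟨l, hl1, hl2, hl3⟩ := exists_block c x hcase
    obtain ⟨l', hl1', hl2', hl3'⟩ := exists_block (c * c) x hcase2
    rw [hsupp2] at hl2'
    set T := S \ insert x c.support with hT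
    set r' := r * c⁻¹ with hr'
    have hout : ∀ y, y ∉ c.support → r' y = r y := by
      intro y hy
      have : c⁻¹ y = y := Perm.notMem_support.1 (by rwa [Perm.support_inv])
      rw [hr', Perm.mul_apply, this]
    have hin : ∀ y ∈ c.support, r' y = y := by
      intro y hy
      have h1 : c⁻¹ y ∈ c.support := by
        rw [← Perm.support_inv c] at hy ⊢; exact Perm.apply_mem_support.2 hy
      have h2 : c (c⁻¹ y) = r (c⁻¹ y) := by
        have hm : r.SameCycle x (c⁻¹ y) := ((Perm.mem_support_cycleOf_iff).1 h1).1
        rw [hc] at hm ⊢; exact hm.cycleOf_apply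
      rw [hr', Perm.mul_apply, ← h2]; exact c.apply_symm_apply y
    have hdis : Perm.Disjoint c r' := by
      intro y
      by_cases hy : y ∈ c.support
      · exact Or.inr (hin y hy)
      · exact Or.inl (Perm.notMem_support.1 hy)
    have hrsub : r'.support ⊆ T := by
      intro y hy
      have hyc : y ∉ c.support := fun h => Perm.mem_support.1 hy (hin y h)
      have hry : r y ≠ y := by rw [← hout y hyc]; exact Perm.mem_support.1 hy
      rw [hT, Finset.mem_sdiff, Finset.mem_insert]
      refine ⟨hsub (Perm.mem_support.2 hry), ?_⟩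
      rintro (e | h)
      · subst e
        exact hyc (by rw [Perm.mem_support, hc, Perm.cycleOf_apply_self]; exact hry)
      · exact hyc h
    have hodd' : Odd (orderOf r') := by
      have hrc : r = c * r' := by rw [hdis.commute.eq, hr', inv_mul_cancel_right]
      have : orderOf r' ∣ orderOf r := by
        conv_rhs => rw [hrc, Perm.Disjoint.orderOf hdis]
        exact Nat.dvd_lcm_right _ _
      exact hodd.of_dvd_nat this
    obtain ⟨bs, bs2, hh, hn1, hf1, hp1, hn2, hf2, hp2, hlen⟩ :=
      IH T.card (by
        rw [← hN]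
        refine Finset.card_lt_card ⟨Finset.sdiff_subset, fun h => ?_⟩
        exact (Finset.mem_sdiff.1 (h hx)).2 (Finset.mem_insert_self _ _)) T r' rfl hrsub hodd'
    have hSsplit : insert x c.support ∪ T = S := by
      rw [hT, Finset.union_sdiff_of_subset]
      refine Finset.insert_subset hx fun y hy => hsub ?_
      exact Perm.support_cycleOf_le r x hy
    have hnd : ∀ (l : List α) (bs : List (α × List α)), (x :: l).Nodup → (flat bs).Nodup →
        (x :: l).toFinset = insert x c.support → (flat bs).toFinset = T →
        (flat ((x, l) :: bs)).Nodup ∧ (flat ((x, l) :: bs)).toFinset = S := by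
      intro l bs h1 h2 h3 h4
      refine ⟨?_, by rw [flat_toFinset_cons, h3, h4, hSsplit]⟩
      rw [flat_cons, List.nodup_append]
      refine ⟨h1, h2, fun a ha b hb e => ?_⟩
      subst e
      rw [← List.mem_toFinset, h3] at ha
      rw [← List.mem_toFinset, h4] at hb
      exact (Finset.mem_sdiff.1 hb).2 ha
    obtain ⟨hna, hfa⟩ := hnd l bs hl1 hn1 hl2 hf1
    obtain ⟨hnb, hfb⟩ := hnd l' bs2 hl1' hn2 hl2' hf2
    refine ⟨(x, l) :: bs, (x, l') :: bs2, by simp [hh], hna, hfa, ?_, hnb, hfb, ?_, ?_⟩
    · show (x :: l).formPerm * cyProd bs = r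
      rw [hl3, hp1, hdis.commute.eq, hr', inv_mul_cancel_right]
    · show (x :: l').formPerm * cyProd bs2 = r * r
      have hrc : r = c * r' := by rw [hdis.commute.eq, hr', inv_mul_cancel_right]
      rw [hl3', hp2]
      conv_rhs => rw [hrc]
      rw [mul_assoc c r' (c * r'), ← mul_assoc r' c r', ← hdis.commute.eq, ← mul_assoc c, ← mul_assoc c,
        mul_assoc (c * c)]
    · intro b hb
      rcases List.mem_cons.1 hb with rfl | hb
      · show Odd (x :: l).length
        rw [← List.toFinset_card_of_nodup hl1, hl2]
        rcases hcase with h | ⟨h, hx'⟩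
        · simp [h]
        · rw [Finset.insert_eq_of_mem hx', ← h.orderOf]; exact ⟨k, hk⟩
      · exact hlen b hb

end CfsgLib.Invol.AltPair
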