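import Mathlib

/-!
# Non-solvability criteria for permutation groups
-/

set_option autoImplicit false

namespace CfsgLib.Invol.AltPair

open Equiv Equiv.Perm
open scoped commutatorElement

/-- Two elements that are commutators in the group they generate. -/
theorem not_solvable_of_cert {G : Type*} [Group G] (a b : G) (ha : a ≠ 1)
    (h : ∃ s ∈ Subgroup.closure {a, b}, ∃ t ∈ Subgroup.closure ({a, b} : Set G),
      ∃ s' ∈ Subgroup.closure ({a, b} : Set G), ∃ t' ∈ Subgroup.closure ({a, b} : Set G),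
      a = s * t * s⁻¹ * t⁻¹ ∧ b = s' * t' * s'⁻¹ * t'⁻¹) :
    ¬ Group.IsSolvable (Subgroup.closure ({a, b} : Set G)) := by
  obtain ⟨s, hs, t, ht, s', hs', t', ht', e1, e2⟩ := h
  set H := Subgroup.closure ({a, b} : Set G) with hH
  intro hsol
  have haH : a ∈ H := Subgroup.subset_closure (by simp)
  have hbH : b ∈ H := Subgroup.subset_closure (by simp)
  have hcomm : commutator H = ⊤ := by
    have h1 : (⟨a, haH⟩ : H) ∈ commutator H := by
      have : (⟨a, haH⟩ : H) = ⁅(⟨s, hs⟩ : H), ⟨t, ht⟩⁆ := Subtype.ext e1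
      rw [this]; exact Subgroup.commutator_mem_commutator (Subgroup.mem_top _) (Subgroup.mem_top _)
    have h2 : (⟨b, hbH⟩ : H) ∈ commutator H := by
      have : (⟨b, hbH⟩ : H) = ⁅(⟨s', hs'⟩ : H), ⟨t', ht'⟩⁆ := Subtype.ext e2
      rw [this]; exact Subgroup.commutator_mem_commutator (Subgroup.mem_top _) (Subgroup.mem_top _)
    have h3 : H ≤ (commutator H).map H.subtype := by
      rw [hH]
      refine (Subgroup.closure_le _).2 ?_
      rintro y (rfl | rfl)
      · exact ⟨_, h1, rfl⟩
      · exact ⟨_, h2, rfl⟩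
    rw [eq_top_iff]
    intro z _
    obtain ⟨w, hw, e⟩ := h3 z.2
    exact Subtype.ext e ▸ hw
  obtain ⟨n, hn⟩ := (Group.isSolvable_def H).1 hsol
  have hall : ∀ m, derivedSeries H m = ⊤ := by
    intro m
    induction m with
    | zero => rfl
    | succ m ih => rw [derivedSeries_succ, ih]; exact hcomm
  rw [hall] at hn
  have h4 : (⟨a, haH⟩ : H) ∈ (⊥ : Subgroup H) := hn ▸ Subgroup.mem_top _
  rw [Subgroup.mem_bot] at h4
  exact ha (congrArg Subtype.val h4)

/-- A nontrivial abelian normal subgroup of a nontrivial solvable group. -/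
theorem exists_abelian_normal {G : Type*} [Group G] [Group.IsSolvable G] (h : ∃ g : G, g ≠ 1) :
    ∃ A : Subgroup G, A.Normal ∧ A ≠ ⊥ ∧ ∀ a ∈ A, ∀ b ∈ A, a * b = b * a := by
  classical
  obtain ⟨g, hg⟩ := h
  have hex : ∃ n, derivedSeries G n = ⊥ := (Group.isSolvable_def G).1 inferInstance
  have hspec : derivedSeries G (Nat.find hex) = ⊥ := Nat.find_spec hex
  obtain ⟨m, hm⟩ : ∃ m, Nat.find hex = m + 1 := by
    refine ⟨Nat.find hex - 1, ?_⟩
    rcases Nat.eq_zero_or_pos (Nat.find hex) with h0 | h0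
    · exfalso
      rw [h0, derivedSeries_zero] at hspec
      have : g ∈ (⊥ : Subgroup G) := hspec ▸ Subgroup.mem_top g
      exact hg (Subgroup.mem_bot.1 this)
    · omega
  refine ⟨derivedSeries G m, derivedSeries_normal G m, Nat.find_min hex (by omega), fun a ha b hb => ?_⟩
  rw [hm, derivedSeries_succ] at hspec
  have : ⁅a, b⁆ = 1 := Subgroup.mem_bot.1 (hspec ▸ Subgroup.commutator_mem_commutator ha hb)
  exact commutatorElement_eq_one_iff_mul_comm.1 this

variable {α : Type*} [Fintype α] [DecidableEq α]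

/-- A transitive group containing a full cycle `u` on `p^k` points and an element `z` whose support
size is prime to `p` and whose fixed point number is not a power of `p`, such that no proper block
contains a fixed point of `z` together with a cycle of `z`, is not solvable. -/
theorem not_solvable_of_cycle {p k : ℕ} (hp : p.Prime) (hn : Fintype.card α = p ^ k)
    (G : Subgroup (Perm α)) (u z : Perm α) (huG : u ∈ G) (hzG : z ∈ G)
    (hu : u.IsCycle) (hsu : u.support = Finset.univ)
    (hs : ¬ p ∣ z.support.card)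
    (hf : ∀ j, Fintype.card α - z.support.card ≠ p ^ j)
    (hO : ∀ O : Set α, ∀ x y : α, x ∈ O → y ∈ O → z x = x → z y ≠ y → O.ncard ∣ Fintype.card α →
      (∀ a ∈ O, z a ∈ O) → (∀ i : ℤ, (∃ a ∈ O, (u ^ i) a ∈ O) → ∀ a ∈ O, (u ^ i) a ∈ O) →
      O = Set.univ) :
    ¬ Group.IsSolvable G := by
  classical
  intro hsol
  haveI := hsol
  have htr : MulAction.IsPretransitive G α := by
    refine ⟨fun a b => ?_⟩
    have ha : u a ≠ a := Perm.mem_support.1 (hsu ▸ Finset.mem_univ a)
    have hb : u b ≠ b := Perm.mem_support.1 (hsu ▸ Finset.mem_univ b)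
    obtain ⟨i, hi⟩ := hu.sameCycle ha hb
    exact ⟨⟨u ^ i, G.zpow_mem huG i⟩, hi⟩
  haveI := htr
  obtain ⟨A, hA, hA1, hAc⟩ := exists_abelian_normal (G := G) ⟨⟨u, huG⟩, fun e => hu.ne_one (congrArg Subtype.val e)⟩
  haveI := hA
  have hblock := fun a : α => MulAction.IsBlock.orbit_of_normal (G := G) (N := A) a
  have hdvd : ∀ a : α, (MulAction.orbit A a).ncard ∣ Fintype.card α := fun a => by
    rw [← Nat.card_eq_fintype_card]
    exact (hblock a).ncard_dvd_card ⟨a, MulAction.mem_orbit_self a⟩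
  -- invariance of an orbit under an element mapping one of its points into it
  have hinv : ∀ (g : Perm α), g ∈ G → ∀ a b : α, b ∈ MulAction.orbit A a → g b ∈ MulAction.orbit A a →
      ∀ c ∈ MulAction.orbit A a, g c ∈ MulAction.orbit A a := by
    intro g hg a b hb hgb c hc
    obtain ⟨a₁, ha₁⟩ := hb
    obtain ⟨a₂, ha₂⟩ := hc
    obtain ⟨a₃, ha₃⟩ := hgb
    refine ⟨⟨(⟨g, hg⟩ : G) * ((a₂ : G) * (a₁ : G)⁻¹) * (⟨g, hg⟩ : G)⁻¹ * (a₃ : G),
      A.mul_mem (hA.conj_mem _ (A.mul_mem a₂.2 (A.inv_mem a₁.2)) _) a₃.2⟩, ?_⟩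
    show ((⟨g, hg⟩ : G) * ((a₂ : G) * (a₁ : G)⁻¹) * (⟨g, hg⟩ : G)⁻¹ * (a₃ : G)) • a = g c
    have e3 : (a₃ : G) • a = g b := ha₃
    have e1 : (a₁ : G) • a = b := ha₁
    have e2 : (a₂ : G) • a = c := ha₂
    rw [mul_smul, mul_smul, e3, show g b = (⟨g, hg⟩ : G) • b from rfl, inv_smul_smul, ← e1,
      ← mul_smul, mul_assoc (⟨g, hg⟩ : G), inv_mul_cancel_right, mul_smul, e2]
    rfl
  -- some orbit contains a fixed point and a moved point of `z`
  have hmix : ∃ x y, z x = x ∧ z y ≠ y ∧ y ∈ MulAction.orbit A x := by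
    by_contra hno
    push Not at hno
    have hclosed : ∀ y, z y ≠ y → ∀ a ∈ MulAction.orbit A y, z a ≠ a := by
      intro y hy a ha hza
      exact hno a y hza hy ((MulAction.orbit_eq_iff.2 ha).symm ▸ MulAction.mem_orbit_self y)
    obtain ⟨q, hq⟩ : ∃ a : A, ∃ w : α, a • w ≠ w := by
      by_contra hcon
      push Not at hcon
      refine hA1 (Subgroup.eq_bot_iff_forall _ |>.2 fun a ha => Subtype.ext (Equiv.ext fun w => ?_))
      exact hcon ⟨a, ha⟩ w
    obtain ⟨w, hw⟩ := hq
    have hsize : ∀ a b : α, (MulAction.orbit A a).ncard = (MulAction.orbit A b).ncard := by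
      intro a b
      obtain ⟨g, rfl⟩ := MulAction.exists_smul_eq G a b
      have himg : MulAction.orbit A (g • a) = (fun c => g • c) '' MulAction.orbit A a := by
        ext c
        constructor
        · rintro ⟨e, rfl⟩
          refine ⟨(g⁻¹ * (e : G) * g) • a, ⟨⟨_, hA.conj_mem' _ e.2 g⟩, rfl⟩, ?_⟩
          show g • (g⁻¹ * (e : G) * g) • a = (e : G) • g • a
          simp [← mul_smul, mul_assoc]
        · rintro ⟨_, ⟨e, rfl⟩, rfl⟩
          refine ⟨⟨g * (e : G) * g⁻¹, hA.conj_mem _ e.2 g⟩, ?_⟩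
          show (g * (e : G) * g⁻¹) • g • a = g • (e : G) • a
          simp [← mul_smul, mul_assoc]
      rw [himg, Set.ncard_image_of_injective _ (MulAction.injective g)]
    have hp_dvd : ∀ a : α, p ∣ (MulAction.orbit A a).ncard := by
      intro a
      have h2 : 1 < (MulAction.orbit A a).ncard := by
        rw [hsize a w]
        exact (Set.one_lt_ncard_iff (Set.toFinite _)).2
          ⟨q • w, w, MulAction.mem_orbit _ _, MulAction.mem_orbit_self _, hw⟩
      obtain ⟨j, -, hj⟩ := (Nat.dvd_prime_pow hp).1 (hn ▸ hdvd a)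
      rw [hj] at h2 ⊢
      exact dvd_pow_self p (fun e => by rw [e, pow_zero] at h2; exact lt_irrefl _ h2)
    apply hs
    have h3 : ∀ y ∈ z.support, (z.support.filter fun a => MulAction.orbit A a = MulAction.orbit A y).card =
        (MulAction.orbit A y).ncard := by
      intro y hy
      rw [← Set.ncard_coe_finset]
      congr 1
      ext a
      simp only [Finset.coe_filter, Set.mem_setOf_eq, Perm.mem_support]
      constructor
      · rintro ⟨-, h⟩; exact h ▸ MulAction.mem_orbit_self a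
      · intro h; exact ⟨hclosed y (Perm.mem_support.1 hy) a h, MulAction.orbit_eq_iff.2 h⟩
    rw [Finset.card_eq_sum_card_image (fun a => MulAction.orbit A a) z.support]
    refine Finset.dvd_sum fun o ho => ?_
    obtain ⟨y, hy, rfl⟩ := Finset.mem_image.1 ho
    rw [h3 y hy]
    exact hp_dvd y
  obtain ⟨x, y, hx, hy, hxy⟩ := hmix
  have hOu : MulAction.orbit A x = Set.univ := by
    refine hO _ x y (MulAction.mem_orbit_self x) hxy hx hy (hdvd x)
      (hinv z hzG x x (MulAction.mem_orbit_self x) (by rw [hx]; exact MulAction.mem_orbit_self x)) ?_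
    rintro i ⟨a, ha, ha'⟩
    exact hinv (u ^ i) (G.zpow_mem huG i) x a ha ha'
  -- `A` is regular, so the fixed points of `z` correspond to `C_A(z)`
  have hreg : ∀ a b : A, a • x = b • x → a = b := by
    intro a b h
    apply Subtype.ext; apply Subtype.ext
    refine Equiv.ext fun w => ?_
    obtain ⟨c, rfl⟩ : w ∈ MulAction.orbit A x := hOu ▸ Set.mem_univ w
    have hcomm : ∀ e : A, ((e : G) : Perm α) (c • x) = c • e • x := fun e => by
      show (e : G) • (c : G) • x = (c : G) • (e : G) • x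
      rw [← mul_smul, ← mul_smul, hAc _ e.2 _ c.2]
    show ((a : G) : Perm α) (c • x) = ((b : G) : Perm α) (c • x)
    rw [hcomm a, hcomm b, h]
  let e : A ≃ α := Equiv.ofBijective (fun a => a • x)
    ⟨fun a b h => hreg a b h, fun w => (hOu ▸ Set.mem_univ w : w ∈ MulAction.orbit A x)⟩
  let C : Subgroup A := (Subgroup.centralizer {(⟨z, hzG⟩ : G)}).subgroupOf A
  have hC : Nat.card C = Fintype.card α - z.support.card := by
    have h1 : ∀ a : A, a ∈ C ↔ z (a • x) = a • x := by
      intro a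
      have hza : z ((a : A) • x) = (⟨⟨z, hzG⟩ * (a : G) * (⟨z, hzG⟩ : G)⁻¹, hA.conj_mem _ a.2 _⟩ : A) • x := by
        show (⟨z, hzG⟩ : G) • (a : G) • x = ((⟨z, hzG⟩ : G) * (a : G) * (⟨z, hzG⟩ : G)⁻¹) • x
        rw [mul_smul, mul_smul]
        congr 2
        exact (inv_smul_eq_iff.2 hx.symm).symm
      rw [hza, Subgroup.mem_subgroupOf, Subgroup.mem_centralizer_singleton_iff]
      constructor
      · intro h
        congr 1
        apply Subtype.ext
        show (⟨z, hzG⟩ : G) * (a : G) * (⟨z, hzG⟩ : G)⁻¹ = a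
        rw [← h, mul_inv_cancel_right]
      · intro h
        have hc : (⟨z, hzG⟩ : G) * (a : G) * (⟨z, hzG⟩ : G)⁻¹ = a :=
          congrArg Subtype.val (hreg _ _ h)
        exact (mul_inv_eq_iff_eq_mul.1 hc).symm
    have h2 : C ≃ {w : α // w ∉ z.support} :=
      Equiv.subtypeEquiv e (fun a => by rw [Perm.notMem_support]; exact h1 a)
    rw [Nat.card_congr h2, Nat.card_eq_fintype_card, Fintype.card_subtype_compl,
      Fintype.card_coe]
  have hdvdC : Nat.card C ∣ p ^ k := by
    rw [← hn, ← Nat.card_eq_fintype_card (α := α), ← Nat.card_congr e]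
    exact Subgroup.card_subgroup_dvd_card C
  obtain ⟨j, -, hj⟩ := (Nat.dvd_prime_pow hp).1 hdvdC
  exact hf j (hC ▸ hj)

end CfsgLib.Invol.AltPair
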