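import Mathlib
import Cfsg.Agent.Lib.Invol.AltPair.Glue
import Cfsg.Agent.Lib.Invol.AltPair.Unsolvable

/-!
# Good pairs: the base case of a full cycle
-/

set_option autoImplicit false

namespace CfsgLib.Invol.AltPair

open Equiv Equiv.Perm

variable {α : Type*} [Fintype α] [DecidableEq α]

/-- `u` and an even conjugate of `w` have a product of non-`p`-power order and generate a
non-solvable group. -/
def Good (p : ℕ) (u w : Perm α) : Prop :=
  ∃ g : Perm α, Perm.sign g = 1 ∧ (¬ ∃ k, orderOf (u * (g * w * g⁻¹)) = p ^ k) ∧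
    ¬ Group.IsSolvable (Subgroup.closure ({u, g * w * g⁻¹} : Set (Perm α)))

theorem not_solvable_map {G H : Type*} [Group G] [Group H] (e : G ≃* H) (a b : G)
    (h : ¬ Group.IsSolvable (Subgroup.closure ({a, b} : Set G))) :
    ¬ Group.IsSolvable (Subgroup.closure ({e a, e b} : Set H)) := by
  intro hs
  apply h
  have hmap : (Subgroup.closure ({a, b} : Set G)).map e.toMonoidHom = Subgroup.closure {e a, e b} := by
    rw [MonoidHom.map_closure, Set.image_pair]; rfl
  rw [← hmap] at hs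
  haveI := hs
  exact Group.isSolvable_of_isSolvable_injective
    (f := ((Subgroup.closure ({a, b} : Set G)).equivMapOfInjective e.toMonoidHom e.injective).toMonoidHom)
    (((Subgroup.closure ({a, b} : Set G)).equivMapOfInjective e.toMonoidHom e.injective).injective)

theorem Good.map {β : Type*} [Fintype β] [DecidableEq β] {p : ℕ} {u w : Perm α} (h : Good p u w)
    (e : α ≃ β) : Good p (e.permCongrHom u) (e.permCongrHom w) := by
  obtain ⟨g, hg, ho, hs⟩ := h
  refine ⟨e.permCongrHom g, (Perm.sign_permCongr e g).trans hg, ?_, ?_⟩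
  · rw [← map_inv, ← map_mul, ← map_mul, ← map_mul,
      MulEquiv.orderOf_eq]
    exact ho
  · rw [← map_inv, ← map_mul, ← map_mul]
    exact not_solvable_map _ _ _ hs

theorem Good.conj_left {p : ℕ} {u w : Perm α} (h : Good p u w) (σ : Perm α) (hσ : Perm.sign σ = 1) :
    Good p (σ * u * σ⁻¹) w := by
  obtain ⟨g, hg, ho, hs⟩ := h
  refine ⟨σ * g, by rw [map_mul, hσ, hg, one_mul], ?_, ?_⟩
  · rw [show σ * u * σ⁻¹ * (σ * g * w * (σ * g)⁻¹) = σ * (u * (g * w * g⁻¹)) * σ⁻¹ by group,
      show σ * (u * (g * w * g⁻¹)) * σ⁻¹ = MulAut.conj σ (u * (g * w * g⁻¹)) from rfl,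
      MulEquiv.orderOf_eq]
    exact ho
  · rw [show σ * g * w * (σ * g)⁻¹ = σ * (g * w * g⁻¹) * σ⁻¹ by group]
    exact not_solvable_map (MulAut.conj σ) _ _ hs

theorem Good.conj_right {p : ℕ} {u w : Perm α} (h : Good p u w) (σ : Perm α) (hσ : Perm.sign σ = 1) :
    Good p u (σ * w * σ⁻¹) := by
  obtain ⟨g, hg, ho, hs⟩ := h
  refine ⟨g * σ⁻¹, by rw [map_mul, map_inv, hσ, hg, inv_one, one_mul], ?_⟩
  rw [show g * σ⁻¹ * (σ * w * σ⁻¹) * (g * σ⁻¹)⁻¹ = g * w * g⁻¹ by group]
  exact ⟨ho, hs⟩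

theorem Good.symm {p : ℕ} {u w : Perm α} (h : Good p u w) : Good p w u := by
  obtain ⟨g, hg, ho, hs⟩ := h
  refine ⟨g⁻¹, by rw [map_inv, hg, inv_one], ?_, ?_⟩
  · have e : g * (w * (g⁻¹ * u * g⁻¹⁻¹)) * g⁻¹ = u⁻¹ * (u * (g * w * g⁻¹)) * u⁻¹⁻¹ := by group
    have e2 : orderOf (MulAut.conj g (w * (g⁻¹ * u * g⁻¹⁻¹))) =
        orderOf (MulAut.conj u⁻¹ (u * (g * w * g⁻¹))) := congrArg orderOf e
    rw [MulEquiv.orderOf_eq, MulEquiv.orderOf_eq] at e2
    rw [e2]; exact ho
  · have h2 := not_solvable_map (MulAut.conj g⁻¹) _ _ hs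
    rw [Set.pair_comm] at h2
    convert h2 using 6 <;> simp [MulAut.conj_apply, mul_assoc]

/-- An order which is divisible by a prime other than `p` is no power of `p`. -/
theorem not_pow_of_prime {p q o : ℕ} (hp : p.Prime) (hq : q.Prime) (hne : q ≠ p) (ho : o = q) :
    ¬ ∃ k, o = p ^ k := by
  rintro ⟨k, hk⟩
  exact hne ((Nat.prime_dvd_prime_iff_eq hq hp).1 (hq.dvd_of_dvd_pow (dvd_of_eq (ho ▸ hk))))

theorem univ_of_shift {p k : ℕ} (hp : p.Prime) (hn : Fintype.card α = p ^ k) (u : Perm α)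
    (hu : u.IsCycle) (hsu : u.support = Finset.univ) (O : Set α)
    (hblock : ∀ i : ℤ, (∃ a ∈ O, (u ^ i) a ∈ O) → ∀ a ∈ O, (u ^ i) a ∈ O)
    (a : α) (ha : a ∈ O) (d : ℤ) (hd : ¬ (p : ℤ) ∣ d) (hda : (u ^ d) a ∈ O) : O = Set.univ := by
  have hcop : IsCoprime d ((p ^ k : ℕ) : ℤ) := by
    push_cast
    exact IsCoprime.pow_right ((Nat.prime_iff_prime_int.1 hp).coprime_iff_not_dvd.2 hd).symm
  obtain ⟨s, t, hst⟩ := hcop
  have ho : orderOf u = p ^ k := by rw [hu.orderOf, hsu, Finset.card_univ, hn]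
  have hinvd : ∀ m : ℕ, ∀ c ∈ O, ((u ^ d) ^ m) c ∈ O := by
    intro m
    induction m with
    | zero => simp
    | succ m ih => intro c hc; rw [pow_succ', Perm.mul_apply]; exact hblock d ⟨a, ha, hda⟩ _ (ih c hc)
  have hu_eq : u ∈ Subgroup.zpowers (u ^ d) := by
    refine ⟨s, ?_⟩
    show (u ^ d) ^ s = u
    have hsd : d * s = 1 + ((p ^ k : ℕ) : ℤ) * (-t) := by linarith [hst]
    rw [← zpow_mul, hsd, zpow_add, zpow_one, zpow_mul, zpow_natCast, ← ho, pow_orderOf_eq_one, one_zpow,
      mul_one]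
  have hfo : IsOfFinOrder (u ^ d) := isOfFinOrder_of_finite _
  obtain ⟨m, hm⟩ := hfo.mem_powers_iff_mem_zpowers.2 hu_eq |> (Submonoid.mem_powers_iff _ _).1
  have hinv : ∀ c ∈ O, u c ∈ O := fun c hc => by rw [← hm]; exact hinvd m c hc
  have hpow : ∀ i : ℕ, (u ^ i) a ∈ O := by
    intro i
    induction i with
    | zero => simpa using ha
    | succ i ih => rw [pow_succ', Perm.mul_apply]; exact hinv _ ih
  refine Set.eq_univ_of_forall fun c => ?_
  have h1 : u a ≠ a := Perm.mem_support.1 (hsu ▸ Finset.mem_univ a)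
  have h2 : u c ≠ c := Perm.mem_support.1 (hsu ▸ Finset.mem_univ c)
  obtain ⟨i, -, hi⟩ := (hu.sameCycle h1 h2).exists_pow_eq'
  exact hi ▸ hpow i

section Commutator

variable {p k : ℕ} (u : Perm α) (x₀ : α)

/-- The `i`-th point of the cycle. -/
def pt (i : ℕ) : α := (u ^ i) x₀

theorem pt_inj (hu : u.IsCycle) (hsu : u.support = Finset.univ) {i j : ℕ}
    (hi : i < Fintype.card α) (hj : j < Fintype.card α) (h : pt u x₀ i = pt u x₀ j) : i = j := by
  have ho : orderOf u = Fintype.card α := by rw [hu.orderOf, hsu, Finset.card_univ]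
  have hx : u x₀ ≠ x₀ := Perm.mem_support.1 (hsu ▸ Finset.mem_univ x₀)
  rw [← ho] at hi hj
  exact pow_injOn_Iio_orderOf hi hj ((hu.pow_eq_pow_iff).2 ⟨x₀, hx, h⟩)

theorem u_pt (i : ℕ) : u (pt u x₀ i) = pt u x₀ (i + 1) := by
  unfold pt; rw [pow_succ', Perm.mul_apply]

/-- `z = [u, τ]` given by a pattern on the first points of the cycle. -/
theorem good_of_pattern (hp : p.Prime) (hn : Fintype.card α = p ^ k) (hu : u.IsCycle)
    (hsu : u.support = Finset.univ) (τ : Perm α) (idx : Finset ℕ) (f : ℕ → ℕ) (q : ℕ) (hq : q.Prime)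
    (hqp : q ≠ p) (hlt : ∀ i ∈ idx, i < Fintype.card α) (hf : ∀ i ∈ idx, f i ∈ idx)
    (hval : ∀ i ∈ idx, (u * τ * u⁻¹ * τ⁻¹) (pt u x₀ i) = pt u x₀ (f i))
    (hfix : ∀ y, (∀ i ∈ idx, y ≠ pt u x₀ i) → (u * τ * u⁻¹ * τ⁻¹) y = y)
    (hcyc : ∀ i ∈ idx, f^[q] i = i) (hne : idx.Nonempty)
    (hshift : ∀ i ∈ idx, ¬ (p : ℤ) ∣ ((f i : ℤ) - i))
    (hcard : ¬ p ∣ idx.card) (hfixcard : ∀ j, Fintype.card α - idx.card ≠ p ^ j) :
    (¬ ∃ m, orderOf (u * (τ * u⁻¹ * τ⁻¹)) = p ^ m) ∧
      ¬ Group.IsSolvable (Subgroup.closure ({u, τ * u⁻¹ * τ⁻¹} : Set (Perm α))) := by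
  classical
  set z := u * τ * u⁻¹ * τ⁻¹ with hz
  have hz' : u * (τ * u⁻¹ * τ⁻¹) = z := by rw [hz]; group
  have hmove : ∀ i ∈ idx, z (pt u x₀ i) ≠ pt u x₀ i := by
    intro i hi e
    rw [hval i hi] at e
    have := pt_inj u x₀ hu hsu (hlt _ (hf i hi)) (hlt i hi) e
    exact hshift i hi (by rw [this, sub_self]; exact dvd_zero _)
  have hsupp : z.support = idx.image (pt u x₀) := by
    ext y
    rw [Perm.mem_support, Finset.mem_image]
    constructor
    · intro hy
      by_contra hno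
      push Not at hno
      exact hy (hfix y fun i hi e => hno i hi e.symm)
    · rintro ⟨i, hi, rfl⟩; exact hmove i hi
  have hscard : z.support.card = idx.card := by
    rw [hsupp]
    exact Finset.card_image_of_injOn fun i hi j hj e => pt_inj u x₀ hu hsu (hlt i hi) (hlt j hj) e
  have hiter : ∀ m, ∀ i ∈ idx, f^[m] i ∈ idx ∧ (z ^ m) (pt u x₀ i) = pt u x₀ (f^[m] i) := by
    intro m
    induction m with
    | zero => intro i hi; simpa using hi
    | succ m ih =>
      intro i hi
      obtain ⟨h1, h2⟩ := ih i hi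
      rw [Function.iterate_succ_apply', pow_succ', Perm.mul_apply, h2]
      exact ⟨hf _ h1, hval _ h1⟩
  have hord : orderOf z = q := by
    haveI : Fact q.Prime := ⟨hq⟩
    refine orderOf_eq_prime ?_ ?_
    · ext y
      by_cases hy : y ∈ z.support
      · rw [hsupp, Finset.mem_image] at hy
        obtain ⟨i, hi, rfl⟩ := hy
        rw [(hiter q i hi).2, hcyc i hi]; rfl
      · exact Perm.notMem_support.1 fun h => hy (Perm.support_pow_le z q h)
    · intro e
      obtain ⟨i, hi⟩ := hne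
      exact hmove i hi (by rw [e]; rfl)
  refine ⟨by rw [hz']; exact not_pow_of_prime hp hq hqp hord, ?_⟩
  refine not_solvable_of_cycle hp hn _ u z (Subgroup.subset_closure (by simp)) ?_ hu hsu
    (by rwa [hscard]) (by rwa [hscard]) ?_
  · rw [← hz']
    exact Subgroup.mul_mem _ (Subgroup.subset_closure (by simp)) (Subgroup.subset_closure (by simp))
  · intro O x y hx hy _ hzy _ hzO hblock
    obtain ⟨i, hi, rfl⟩ : ∃ i ∈ idx, pt u x₀ i = y :=
      Finset.mem_image.1 (hsupp ▸ Perm.mem_support.2 hzy)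
    refine univ_of_shift hp hn u hu hsu O hblock _ hy ((f i : ℤ) - i) (hshift i hi) ?_
    have := hzO _ hy
    rw [hval i hi] at this
    convert this using 1
    unfold pt
    rw [← Perm.mul_apply, ← zpow_natCast u i, ← zpow_add, sub_add_cancel, zpow_natCast]

end Commutator

/-- A swap conjugated. -/
theorem conj_swap (u : Perm α) (a b : α) : u * swap a b * u⁻¹ = swap (u a) (u b) :=
  (Equiv.swap_apply_apply u a b).symm

/-- Both `u` and `w` are full cycles. -/
theorem good_two_cycles {p k : ℕ} (hp : p.Prime) (hp3 : 3 ≤ p) (hn : Fintype.card α = p ^ k)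
    (h5 : 5 ≤ Fintype.card α) (u w : Perm α) (hu : u.IsCycle) (hsu : u.support = Finset.univ)
    (hw : w.IsCycle) (hsw : w.support = Finset.univ) : Good p u w := by
  classical
  obtain ⟨x₀⟩ : Nonempty α := Fintype.card_pos_iff.1 (by omega)
  obtain ⟨σ, hσ⟩ := isConj_iff.1 (Perm.IsCycle.isConj hu.inv hw (by rw [Perm.support_inv, hsu, hsw]))
  have key : ∀ τ : Perm α, Perm.sign τ = Perm.sign σ →
      ((¬ ∃ m, orderOf (u * (τ * u⁻¹ * τ⁻¹)) = p ^ m) ∧
        ¬ Group.IsSolvable (Subgroup.closure ({u, τ * u⁻¹ * τ⁻¹} : Set (Perm α)))) → Good p u w := by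
    intro τ hτ h
    refine ⟨τ * σ⁻¹, by rw [map_mul, map_inv, hτ, mul_inv_cancel], ?_⟩
    rw [← hσ, show τ * σ⁻¹ * (σ * u⁻¹ * σ⁻¹) * (τ * σ⁻¹)⁻¹ = τ * u⁻¹ * τ⁻¹ by group]
    exact h
  have hne : ∀ i j : ℕ, i < 5 → j < 5 → i ≠ j → pt u x₀ i ≠ pt u x₀ j := fun i j hi hj hij e =>
    hij (pt_inj u x₀ hu hsu (by omega) (by omega) e)
  have hsgn : ∀ i j : ℕ, i < 5 → j < 5 → i ≠ j → Perm.sign (swap (pt u x₀ i) (pt u x₀ j)) = -1 :=
    fun i j hi hj hij => Perm.sign_swap (hne i j hi hj hij)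
  have n01 := hne 0 1 (by omega) (by omega) (by omega)
  have n02 := hne 0 2 (by omega) (by omega) (by omega)
  have n03 := hne 0 3 (by omega) (by omega) (by omega)
  have n04 := hne 0 4 (by omega) (by omega) (by omega)
  have n12 := hne 1 2 (by omega) (by omega) (by omega)
  have n13 := hne 1 3 (by omega) (by omega) (by omega)
  have n14 := hne 1 4 (by omega) (by omega) (by omega)
  have n23 := hne 2 3 (by omega) (by omega) (by omega)
  have n24 := hne 2 4 (by omega) (by omega) (by omega)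
  have n34 := hne 3 4 (by omega) (by omega) (by omega)
  have hpd : ∀ {d : ℤ} (e : ℕ), d.natAbs = e → 0 < e → e < p → ¬ (p : ℤ) ∣ d := by
    intro d e he h0 hlt h
    have := Int.natCast_dvd.1 h
    rw [he] at this
    exact absurd (Nat.le_of_dvd h0 this) (by omega)
  have hfixc : ∀ s : ℕ, ¬ p ∣ s → 0 < s → s + 1 ≠ p ^ k → ∀ j, Fintype.card α - s ≠ p ^ j := by
    intro s hs h0 hs1 j e
    rw [hn] at e
    rcases Nat.eq_zero_or_pos j with rfl | hj
    · simp at e; omega
    · have hk : 0 < k := by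
        rcases Nat.eq_zero_or_pos k with rfl | h
        · simp [hn] at h5
        · exact h
      have hle : s ≤ p ^ k := by
        have := Nat.one_le_pow j p hp.pos
        omega
      apply hs
      have hd : p ∣ p ^ k - p ^ j := Nat.dvd_sub (dvd_pow_self p hk.ne') (dvd_pow_self p hj.ne')
      have : p ^ k - p ^ j = s := by omega
      rwa [this] at hd
  rw [hn] at h5
  rcases Int.units_eq_one_or (Perm.sign σ) with hs | hs
  · -- even τ
    rcases Nat.lt_or_ge p 5 with hp5 | hp5
    · -- p = 3: five-cycle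
      have hp' : p = 3 := by
        rcases Nat.lt_or_ge p 4 with h | h
        · omega
        · interval_cases p; norm_num at hp
      subst hp'
      refine key (swap (pt u x₀ 0) (pt u x₀ 1) * swap (pt u x₀ 2) (pt u x₀ 3))
        (by rw [map_mul, hsgn 0 1 (by omega) (by omega) (by omega),
          hsgn 2 3 (by omega) (by omega) (by omega), hs]; decide) ?_
      have hz : u * (swap (pt u x₀ 0) (pt u x₀ 1) * swap (pt u x₀ 2) (pt u x₀ 3)) * u⁻¹ *
          (swap (pt u x₀ 0) (pt u x₀ 1) * swap (pt u x₀ 2) (pt u x₀ 3))⁻¹ =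
          swap (pt u x₀ 1) (pt u x₀ 2) * swap (pt u x₀ 3) (pt u x₀ 4) *
            (swap (pt u x₀ 2) (pt u x₀ 3) * swap (pt u x₀ 0) (pt u x₀ 1)) := by
        rw [show u * (swap (pt u x₀ 0) (pt u x₀ 1) * swap (pt u x₀ 2) (pt u x₀ 3)) * u⁻¹ =
          (u * swap (pt u x₀ 0) (pt u x₀ 1) * u⁻¹) * (u * swap (pt u x₀ 2) (pt u x₀ 3) * u⁻¹) by group,
          conj_swap, conj_swap, u_pt, u_pt, u_pt, u_pt, mul_inv_rev, swap_inv, swap_inv]
      refine good_of_pattern u x₀ hp hn hu hsu _ {0, 1, 2, 3, 4} (fun i => [2, 0, 4, 1, 3].getD i 0) 5 (by norm_num)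
        (by norm_num) ?_ ?_ ?_ ?_ ?_ (by simp) ?_ (by decide) (hfixc 5 (by decide) (by norm_num) ?_)
      · intro i hi; fin_cases hi <;> omega
      · intro i hi; fin_cases hi <;> decide
      · intro i hi
        rw [hz]
        fin_cases hi <;>
          simp [Perm.mul_apply, swap_apply_def, n01, n02, n03, n04, n12, n13, n14, n23, n24, n34,
            n01.symm, n02.symm, n03.symm, n04.symm, n12.symm, n13.symm, n14.symm, n23.symm, n24.symm,
            n34.symm]
      · intro y hy
        rw [hz]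
        have := hy 0 (by simp); have := hy 1 (by simp); have := hy 2 (by simp)
        have := hy 3 (by simp); have := hy 4 (by simp)
        simp [Perm.mul_apply, swap_apply_of_ne_of_ne, *]
      · intro i hi; fin_cases hi <;> rfl
      · intro i hi; fin_cases hi <;> decide
      · intro e
        rcases Nat.lt_or_ge k 2 with hk | hk
        · interval_cases k <;> simp at e
        · have := Nat.pow_le_pow_right (show 1 ≤ 3 by norm_num) hk; omega
    · refine key (swap (pt u x₀ 0) (pt u x₀ 1) * swap (pt u x₀ 1) (pt u x₀ 2))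
        (by rw [map_mul, hsgn 0 1 (by omega) (by omega) (by omega),
          hsgn 1 2 (by omega) (by omega) (by omega), hs]; decide) ?_
      have hz : u * (swap (pt u x₀ 0) (pt u x₀ 1) * swap (pt u x₀ 1) (pt u x₀ 2)) * u⁻¹ *
          (swap (pt u x₀ 0) (pt u x₀ 1) * swap (pt u x₀ 1) (pt u x₀ 2))⁻¹ =
          swap (pt u x₀ 1) (pt u x₀ 2) * swap (pt u x₀ 2) (pt u x₀ 3) *
            (swap (pt u x₀ 1) (pt u x₀ 2) * swap (pt u x₀ 0) (pt u x₀ 1)) := by
        rw [show u * (swap (pt u x₀ 0) (pt u x₀ 1) * swap (pt u x₀ 1) (pt u x₀ 2)) * u⁻¹ =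
          (u * swap (pt u x₀ 0) (pt u x₀ 1) * u⁻¹) * (u * swap (pt u x₀ 1) (pt u x₀ 2) * u⁻¹) by group,
          conj_swap, conj_swap, u_pt, u_pt, u_pt, mul_inv_rev, swap_inv, swap_inv]
      refine good_of_pattern u x₀ hp hn hu hsu _ {0, 1, 3} (fun i => [3, 0, 0, 1].getD i 0) 3 (by norm_num)
        (by omega) ?_ ?_ ?_ ?_ ?_ (by simp) ?_ ?_ (hfixc 3 ?_ (by norm_num) ?_)
      · intro i hi; fin_cases hi <;> omega
      · intro i hi; fin_cases hi <;> decide
      · intro i hi
        rw [hz]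
        fin_cases hi <;>
          simp [Perm.mul_apply, swap_apply_def, n01, n02, n03, n12, n13, n23,
            n01.symm, n02.symm, n03.symm, n12.symm, n13.symm, n23.symm]
      · intro y hy
        rw [hz]
        have := hy 0 (by simp); have := hy 1 (by simp); have := hy 3 (by simp)
        simp [Perm.mul_apply, swap_apply_def, *]
        split_ifs <;> simp_all
      · intro i hi; fin_cases hi <;> rfl
      · intro i hi
        fin_cases hi
        · exact hpd 3 (by decide) (by norm_num) (by omega)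
        · exact hpd 1 (by decide) (by norm_num) (by omega)
        · exact hpd 2 (by decide) (by norm_num) (by omega)
      · intro h; have := Nat.le_of_dvd (by decide) h; simp at this; omega
      · intro h; have := Nat.le_of_dvd (by norm_num) h; omega
      · omega
  · -- odd τ
    rcases Nat.lt_or_ge p 5 with hp5 | hp5
    · have hp' : p = 3 := by
        rcases Nat.lt_or_ge p 4 with h | h
        · omega
        · interval_cases p; norm_num at hp
      subst hp'
      refine key (swap (pt u x₀ 0) (pt u x₀ 2))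
        (by rw [hsgn 0 2 (by omega) (by omega) (by omega), hs]) ?_
      have hz : u * swap (pt u x₀ 0) (pt u x₀ 2) * u⁻¹ * (swap (pt u x₀ 0) (pt u x₀ 2))⁻¹ =
          swap (pt u x₀ 1) (pt u x₀ 3) * swap (pt u x₀ 0) (pt u x₀ 2) := by
        rw [conj_swap, u_pt, u_pt, swap_inv]
      refine good_of_pattern u x₀ hp hn hu hsu _ {0, 1, 2, 3} (fun i => [2, 3, 0, 1].getD i 0) 2 (by norm_num)
        (by norm_num) ?_ ?_ ?_ ?_ ?_ (by simp) ?_ (by decide) (hfixc 4 (by decide) (by norm_num) ?_)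
      · intro i hi; fin_cases hi <;> omega
      · intro i hi; fin_cases hi <;> decide
      · intro i hi
        rw [hz]
        fin_cases hi <;>
          simp [Perm.mul_apply, swap_apply_def, n01, n02, n03, n12, n13, n23,
            n01.symm, n02.symm, n03.symm, n12.symm, n13.symm, n23.symm]
      · intro y hy
        rw [hz]
        have := hy 0 (by simp); have := hy 1 (by simp); have := hy 2 (by simp); have := hy 3 (by simp)
        simp [Perm.mul_apply, swap_apply_of_ne_of_ne, *]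
      · intro i hi; fin_cases hi <;> rfl
      · intro i hi; fin_cases hi <;> decide
      · intro e
        rcases Nat.lt_or_ge k 2 with hk | hk
        · interval_cases k <;> simp at e h5
        · have := Nat.pow_le_pow_right (show 1 ≤ 3 by norm_num) hk; omega
    · refine key (swap (pt u x₀ 0) (pt u x₀ 1))
        (by rw [hsgn 0 1 (by omega) (by omega) (by omega), hs]) ?_
      have hz : u * swap (pt u x₀ 0) (pt u x₀ 1) * u⁻¹ * (swap (pt u x₀ 0) (pt u x₀ 1))⁻¹ =
          swap (pt u x₀ 1) (pt u x₀ 2) * swap (pt u x₀ 0) (pt u x₀ 1) := by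
        rw [conj_swap, u_pt, u_pt, swap_inv]
      refine good_of_pattern u x₀ hp hn hu hsu _ {0, 1, 2} (fun i => [2, 0, 1].getD i 0) 3 (by norm_num)
        (by omega) ?_ ?_ ?_ ?_ ?_ (by simp) ?_ ?_ (hfixc 3 ?_ (by norm_num) ?_)
      · intro i hi; fin_cases hi <;> omega
      · intro i hi; fin_cases hi <;> decide
      · intro i hi
        rw [hz]
        fin_cases hi <;>
          simp [Perm.mul_apply, swap_apply_def, n01, n02, n12, n01.symm, n02.symm, n12.symm]
      · intro y hy
        rw [hz]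
        have := hy 0 (by simp); have := hy 1 (by simp); have := hy 2 (by simp)
        simp [Perm.mul_apply, swap_apply_of_ne_of_ne, *]
      · intro i hi; fin_cases hi <;> rfl
      · intro i hi
        fin_cases hi
        · exact hpd 2 (by decide) (by norm_num) (by omega)
        · exact hpd 1 (by decide) (by norm_num) (by omega)
        · exact hpd 1 (by decide) (by norm_num) (by omega)
      · intro h; have := Nat.le_of_dvd (by decide) h; simp at this; omega
      · intro h; have := Nat.le_of_dvd (by norm_num) h; omega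
      · omega

end CfsgLib.Invol.AltPair
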