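import Mathlib
import Cfsg.Agent.Lib.Invol.AltPair.Good

/-!
# Good pairs: a full cycle and an element which is not a full cycle
-/

set_option autoImplicit false

namespace CfsgLib.Invol.AltPair

open Equiv Equiv.Perm

variable {α : Type*} [Fintype α] [DecidableEq α]

theorem formPerm_map_perm (σ : Perm α) : ∀ l : List α, (l.map σ).formPerm = σ * l.formPerm * σ⁻¹
  | [] => by simp
  | [x] => by simp
  | x :: y :: l => by
    have ih := formPerm_map_perm σ (y :: l)
    simp only [List.map_cons] at ih ⊢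
    rw [List.formPerm_cons_cons, List.formPerm_cons_cons, ih, ← conj_swap]
    group

/-- Exchanging two neighbouring odd intervals of a cycle is an odd conjugation. -/
theorem odd_conj_of_exchange (X A A' Y : List α) (hnd : (X ++ (A ++ A') ++ Y).Nodup)
    (hA : Odd A.length) (hA' : Odd A'.length) :
    ∃ σ : Perm α, Perm.sign σ = -1 ∧
      (X ++ (A' ++ A) ++ Y).formPerm = σ * (X ++ (A ++ A') ++ Y).formPerm * σ⁻¹ := by
  set M := A ++ A' with hM
  have hMn : M.Nodup := (List.nodup_append.1 (List.nodup_append.1 hnd).1).2.1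
  have hlen : M.length = A.length + A'.length := by rw [hM, List.length_append]
  obtain ⟨a, ha⟩ := hA
  obtain ⟨a', ha'⟩ := hA'
  refine ⟨M.formPerm ^ A.length, ?_, ?_⟩
  · have h2 : 2 ≤ M.length := by omega
    have hs : M.formPerm.support = M.toFinset :=
      List.support_formPerm_of_nodup M hMn (fun x e => by rw [e] at h2; simp at h2)
    rw [map_pow, (List.isCycle_formPerm hMn h2).sign, hs, List.toFinset_card_of_nodup hMn, hlen,
      show A.length + A'.length = 2 * (a + a' + 1) by omega, pow_mul, neg_one_sq, one_pow,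
      (show Odd A.length from ⟨a, ha⟩).neg_one_pow]
  · rw [← formPerm_map_perm, List.map_append, List.map_append]
    have hXY : ∀ x, x ∉ M → (M.formPerm ^ A.length) x = x := fun x hx =>
      Perm.notMem_support.1 fun h => hx
        (List.mem_toFinset.1 (List.support_formPerm_le M (Perm.support_pow_le _ _ h)))
    have hX : X.map (M.formPerm ^ A.length) = X := by
      refine (List.map_congr_left fun x hx => ?_).trans (List.map_id' X)
      refine hXY x fun hxM => ?_
      exact (List.nodup_append.1 (List.nodup_append.1 hnd).1).2.2 x hx x hxM rfl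
    have hY : Y.map (M.formPerm ^ A.length) = Y := by
      refine (List.map_congr_left fun x hx => ?_).trans (List.map_id' Y)
      refine hXY x fun hxM => ?_
      exact (List.nodup_append.1 hnd).2.2 x (List.mem_append_right _ hxM) x hx rfl
    have hMm : M.map (M.formPerm ^ A.length) = A' ++ A := by
      rw [← List.rotate_append_length_eq A A', ← hM]
      refine List.ext_getElem (by simp) fun i h1 h2 => ?_
      rw [List.getElem_map, List.formPerm_pow_apply_getElem M hMn _ i (by simpa using h1),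
        List.getElem_rotate]
    rw [hX, hY, hMm]

/-- The cycle glued from `c⁻¹` and blocks of the other cycles, paired with `w`. -/
theorem good_glued {p k : ℕ} (hp : p.Prime) (hp3 : 3 ≤ p) (hn : Fintype.card α = p ^ k)
    (w c r : Perm α) (hwcr : w = c * r) (hcr : c * r = r * c) (hc : c.IsCycle) (x₀ : α)
    (hx₀ : x₀ ∈ c.support) (hcn : c.support ≠ Finset.univ) (hb : ∃ j, 0 < j ∧ c.support.card = p ^ j)
    (l : List α) (hl1 : (x₀ :: l).Nodup) (hl2 : (x₀ :: l).toFinset = c.support)
    (hl3 : (x₀ :: l).formPerm = c⁻¹)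
    (bs bs2 : List (α × List α)) (hh : bs.map Prod.fst = bs2.map Prod.fst) (hn1 : (flat bs).Nodup)
    (hf1 : (flat bs).toFinset = c.supportᶜ) (hp1 : cyProd bs = r) (hn2 : (flat bs2).Nodup)
    (hf2 : (flat bs2).toFinset = c.supportᶜ) (hp2 : cyProd bs2 = r * r) :
    (flat ((x₀, l) :: bs)).formPerm.IsCycle ∧ (flat ((x₀, l) :: bs)).formPerm.support = Finset.univ ∧
      Good p (flat ((x₀, l) :: bs)).formPerm w := by
  classical
  set u := (flat ((x₀, l) :: bs)).formPerm with hu_def
  have hnx : x₀ ∉ flat bs2 := fun h => by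
    rw [← List.mem_toFinset, hf2, Finset.mem_compl] at h
    exact h hx₀
  have hnd : (flat ((x₀, l) :: bs)).Nodup := by
    rw [flat_cons, List.nodup_append]
    refine ⟨hl1, hn1, fun a ha b hb e => ?_⟩
    subst e
    rw [← List.mem_toFinset, hl2] at ha
    rw [← List.mem_toFinset, hf1, Finset.mem_compl] at hb
    exact hb ha
  have huniv : (flat ((x₀, l) :: bs)).toFinset = Finset.univ := by
    rw [flat_toFinset_cons, hl2, hf1, Finset.union_compl]
  have hlen : 2 ≤ (flat ((x₀, l) :: bs)).length := by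
    rw [← List.toFinset_card_of_nodup hnd, huniv, Finset.card_univ]
    exact le_trans hc.two_le_card_support (Finset.card_le_univ _)
  have huc : u.IsCycle := List.isCycle_formPerm hnd hlen
  have hus : u.support = Finset.univ := by
    rw [hu_def, List.support_formPerm_of_nodup _ hnd (fun y e => by rw [e] at hlen; simp at hlen), huniv]
  refine ⟨huc, hus, ?_⟩
  -- the product
  set Z := flat ((x₀, []) :: bs2) with hZ_def
  have hZ : Z = x₀ :: flat bs2 := by rw [hZ_def, flat_cons]; rfl
  have hZn : Z.Nodup := by rw [hZ]; exact List.nodup_cons.2 ⟨hnx, hn2⟩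
  have hprod : u * w = Z.formPerm := by
    rw [hu_def, hZ_def, formPerm_flat _ hnd, formPerm_flat _ hZn]
    simp only [List.map_cons, cyProd, List.prod_cons]
    rw [show (List.map (fun b => (b.1 :: b.2).formPerm) bs).prod = r from hp1,
      show (List.map (fun b => (b.1 :: b.2).formPerm) bs2).prod = r * r from hp2, hl3, hh,
      List.formPerm_singleton, one_mul, hwcr]
    generalize (x₀ :: List.map Prod.fst bs2).formPerm = H
    rw [mul_assoc H, mul_assoc c⁻¹, ← mul_assoc r c, ← hcr, mul_assoc c, inv_mul_cancel_left]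
  obtain ⟨j, hj0, hj⟩ := hb
  have hblt : c.support.card < p ^ k := by
    rw [← hn, ← Finset.card_univ]
    exact Finset.card_lt_card (Finset.ssubset_univ_iff.2 hcn)
  have hjk : j < k := (Nat.pow_lt_pow_iff_right hp.one_lt).1 (hj ▸ hblt)
  have hZc : Z.toFinset.card = p ^ k - p ^ j + 1 := by
    rw [hZ, List.toFinset_cons, Finset.card_insert_of_notMem (by rwa [List.mem_toFinset]), hf2,
      Finset.card_compl, hn, hj]
  have hpjk : p ^ j < p ^ k := hj ▸ hblt
  have hZlen : 2 ≤ Z.length := by
    rw [← List.toFinset_card_of_nodup hZn, hZc]; omega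
  have hzc : (u * w).IsCycle := hprod ▸ List.isCycle_formPerm hZn hZlen
  have hzs : (u * w).support = Z.toFinset := by
    rw [hprod]
    exact List.support_formPerm_of_nodup _ hZn fun y e => by rw [e] at hZlen; simp at hZlen
  have hnotdvd : ¬ p ∣ p ^ k - p ^ j + 1 := by
    intro h
    have h2 : p ∣ p ^ k - p ^ j :=
      Nat.dvd_sub (dvd_pow_self p (by omega)) (dvd_pow_self p (by omega))
    exact hp.one_lt.ne' (Nat.dvd_one.1 ((Nat.dvd_add_right h2).1 h))
  have hw1 : 1 * w * 1⁻¹ = w := by group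
  refine ⟨1, map_one _, ?_, ?_⟩
  · rw [hw1, hzc.orderOf, hzs, hZc]
    rintro ⟨i, hi⟩
    rcases Nat.eq_zero_or_pos i with rfl | hi0
    · rw [pow_zero] at hi; omega
    · exact hnotdvd (hi ▸ dvd_pow_self p hi0.ne')
  · rw [hw1]
    refine not_solvable_of_cycle hp hn _ u (u * w) (Subgroup.subset_closure (by simp)) ?_ huc hus
      (by rw [hzs, hZc]; exact hnotdvd) ?_ ?_
    · exact Subgroup.mul_mem _ (Subgroup.subset_closure (by simp)) (Subgroup.subset_closure (by simp))
    · intro i e
      rw [hzs, hZc, hn] at e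
      have hodd : ∀ m, Odd (p ^ m) := fun m => (hp.odd_of_ne_two (by omega)).pow
      obtain ⟨a, ha⟩ := hodd k
      obtain ⟨b, hb⟩ := hodd j
      obtain ⟨d, hd⟩ := hodd i
      omega
    · intro O x y hx hy hzx hzy hdvd hzO _
      have hsub : ↑(u * w).support ⊆ O := by
        intro a ha
        obtain ⟨m, -, hm⟩ := (hzc.sameCycle hzy (Perm.mem_support.1 ha)).exists_pow_eq'
        have : ∀ m : ℕ, ((u * w) ^ m) y ∈ O := by
          intro m
          induction m with
          | zero => simpa using hy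
          | succ m ih => rw [pow_succ', Perm.mul_apply]; exact hzO _ ih
        exact hm ▸ this m
      have h1 : (u * w).support.card + 1 ≤ O.ncard := by
        rw [← Finset.card_insert_of_notMem (Perm.notMem_support.2 hzx), ← Set.ncard_coe_finset,
          Finset.coe_insert]
        exact Set.ncard_le_ncard (Set.insert_subset hx hsub) (Set.toFinite _)
      rw [hzs, hZc] at h1
      rw [hn] at hdvd
      obtain ⟨i, hik, hi⟩ := (Nat.dvd_prime_pow hp).1 hdvd
      refine Set.eq_of_subset_of_ncard_le (Set.subset_univ O) ?_ (Set.toFinite _)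
      rw [Set.ncard_univ, Nat.card_eq_fintype_card, hn, hi]
      rcases Nat.lt_or_ge i k with hlt | hge
      · exfalso
        have h2 : p ^ i * 3 ≤ p ^ k :=
          le_trans (Nat.mul_le_mul_left _ hp3) (le_of_eq_of_le (pow_succ p i).symm
            (Nat.pow_le_pow_right hp.pos hlt))
        have h3 : p ^ j * 3 ≤ p ^ k :=
          le_trans (Nat.mul_le_mul_left _ hp3) (le_of_eq_of_le (pow_succ p j).symm
            (Nat.pow_le_pow_right hp.pos hjk))
        omega
      · rw [show i = k by omega]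

theorem isConj_even {p : ℕ} (u v w σ : Perm α) (h : Good p v w) (e : u = σ * v * σ⁻¹)
    (hσ : Perm.sign σ = 1) : Good p u w := e ▸ h.conj_left σ hσ

/-- `u` is a full cycle and `w` is not. -/
theorem good_cycle_other {p k : ℕ} (hp : p.Prime) (hp3 : 3 ≤ p) (hn : Fintype.card α = p ^ k)
    (u w : Perm α) (hu : u.IsCycle) (hsu : u.support = Finset.univ) (hw : w ≠ 1)
    (how : ∃ m, orderOf w = p ^ m) (hwn : ¬ (w.IsCycle ∧ w.support = Finset.univ)) : Good p u w := by
  classical
  obtain ⟨x₀, hx₀⟩ : ∃ x, x ∈ w.support :=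
    Finset.nonempty_iff_ne_empty.2 fun e => hw (Perm.support_eq_empty_iff.1 e)
  set c := w.cycleOf x₀ with hc_def
  have hc : c.IsCycle := Perm.isCycle_cycleOf w (Perm.mem_support.1 hx₀)
  have hmem : c ∈ w.cycleFactorsFinset := Perm.cycleOf_mem_cycleFactorsFinset_iff.2 hx₀
  have hdis : Perm.Disjoint (w * c⁻¹) c := Perm.disjoint_mul_inv_of_mem_cycleFactorsFinset hmem
  set r := w * c⁻¹ with hr_def
  have hwcr : w = c * r := by rw [← hdis.commute.eq, hr_def, inv_mul_cancel_right]
  have hx₀c : x₀ ∈ c.support := by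
    rw [Perm.mem_support, hc_def, Perm.cycleOf_apply_self]; exact Perm.mem_support.1 hx₀
  have hcn : c.support ≠ Finset.univ := by
    intro e
    have hr1 : r = 1 := Equiv.ext fun y => (hdis y).resolve_right (Perm.mem_support.1 (e ▸ Finset.mem_univ y))
    rw [hr1, mul_one] at hwcr
    exact hwn ⟨hwcr ▸ hc, hwcr ▸ e⟩
  obtain ⟨m, hm⟩ := how
  have hb : ∃ j, 0 < j ∧ c.support.card = p ^ j := by
    obtain ⟨j, -, hj⟩ := (Nat.dvd_prime_pow hp).1 (hm ▸ Perm.orderOf_cycleOf_dvd_orderOf w x₀)
    rw [← hc_def, hc.orderOf] at hj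
    refine ⟨j, ?_, hj⟩
    rcases Nat.eq_zero_or_pos j with rfl | h
    · have := hc.two_le_card_support; simp at hj; omega
    · exact h
  have hodd : Odd (orderOf r) := by
    refine Odd.of_dvd_nat ((hp.odd_of_ne_two (by omega)).pow (n := m)) ?_
    rw [← hm, hwcr, hdis.symm.orderOf]
    exact Nat.dvd_lcm_right _ _
  have hrsub : r.support ⊆ c.supportᶜ := by
    intro y hy
    rw [Finset.mem_compl]
    intro hyc
    exact (hdis y).elim (Perm.mem_support.1 hy) (Perm.mem_support.1 hyc)
  obtain ⟨bs, bs2, hh, hn1, hf1, hp1, hn2, hf2, hp2, hlen⟩ :=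
    exists_blocks _ c.supportᶜ r rfl hrsub hodd
  obtain ⟨l, hl1, hl2, hl3⟩ := exists_block c⁻¹ x₀ (Or.inr ⟨hc.inv, by rwa [Perm.support_inv]⟩)
  rw [Perm.support_inv, Finset.insert_eq_of_mem hx₀c] at hl2
  have main := fun bs bs2 hh hn1 hf1 hp1 hn2 hf2 hp2 =>
    good_glued hp hp3 hn w c r hwcr hdis.symm.commute.eq hc x₀ hx₀c hcn hb l hl1 hl2 hl3 bs bs2 hh
      hn1 hf1 hp1 hn2 hf2 hp2
  obtain ⟨hv, hvs, hgood⟩ := main bs bs2 hh hn1 hf1 hp1 hn2 hf2 hp2
  obtain ⟨σ, hσ⟩ := isConj_iff.1 (hv.isConj hu (by rw [hvs, hsu]))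
  rcases Int.units_eq_one_or (Perm.sign σ) with hs | hs
  · exact isConj_even u _ w σ hgood hσ.symm hs
  -- at least two blocks outside `c`
  obtain ⟨j, hj0, hj⟩ := hb
  have hlensum : (flat bs).length = p ^ k - p ^ j := by
    rw [← List.toFinset_card_of_nodup hn1, hf1, Finset.card_compl, hn, hj]
  have hjk : p ^ j < p ^ k := by
    rw [← hj, ← hn, ← Finset.card_univ]
    exact Finset.card_lt_card (Finset.ssubset_univ_iff.2 hcn)
  have hoddp : ∀ m, Odd (p ^ m) := fun m => (hp.odd_of_ne_two (by omega)).pow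
  obtain ⟨a, ha⟩ := hoddp k
  obtain ⟨b, hb'⟩ := hoddp j
  match bs, bs2 with
  | [], _ => simp [flat] at hlensum; omega
  | [b₁], _ =>
    obtain ⟨d, hd⟩ := hlen b₁ (by simp)
    simp [flat] at hlensum hd
    omega
  | _ :: _ :: _, [] => simp at hh
  | _ :: _ :: _, [_] => simp at hh
  | b₁ :: b₂ :: rest, b₁' :: b₂' :: rest' =>
    simp only [List.map_cons, List.cons.injEq] at hh
    obtain ⟨hh1, hh2, hh3⟩ := hh
    have hcomm : ∀ (d e : α × List α) (rs : List (α × List α)), (flat (d :: e :: rs)).Nodup →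
        cyProd (e :: d :: rs) = cyProd (d :: e :: rs) ∧ (flat (e :: d :: rs)).Nodup ∧
          (flat (e :: d :: rs)).toFinset = (flat (d :: e :: rs)).toFinset := by
      intro d e rs hnd
      have hperm : (flat (e :: d :: rs)).Perm (flat (d :: e :: rs)) := by
        rw [flat_cons, flat_cons, flat_cons, flat_cons, ← List.append_assoc, ← List.append_assoc]
        exact List.perm_append_comm.append_right _
      refine ⟨?_, hperm.nodup_iff.2 hnd, List.toFinset_eq_of_perm _ _ hperm⟩
      have hdj : Perm.Disjoint (d.1 :: d.2).formPerm (e.1 :: e.2).formPerm := by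
        intro y
        by_cases hy : y ∈ d.1 :: d.2
        · refine Or.inr (List.formPerm_apply_of_notMem fun hy' => ?_)
          rw [flat_cons, flat_cons] at hnd
          exact (List.nodup_append.1 hnd).2.2 y hy y (List.mem_append_left _ hy') rfl
        · exact Or.inl (List.formPerm_apply_of_notMem hy)
      show (e.1 :: e.2).formPerm * ((d.1 :: d.2).formPerm * _) = (d.1 :: d.2).formPerm * ((e.1 :: e.2).formPerm * _)
      rw [← mul_assoc, ← mul_assoc, hdj.commute.eq]
    obtain ⟨hq1, hq1n, hq1f⟩ := hcomm b₁ b₂ rest hn1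
    obtain ⟨hq2, hq2n, hq2f⟩ := hcomm b₁' b₂' rest' hn2
    obtain ⟨-, -, hgood'⟩ := main (b₂ :: b₁ :: rest) (b₂' :: b₁' :: rest') (by simp [hh1, hh2, hh3]) hq1n
      (hq1f.trans hf1) (hq1.trans hp1) hq2n (hq2f.trans hf2) (hq2.trans hp2)
    have hfl : ∀ d e : α × List α, flat ((x₀, l) :: d :: e :: rest) =
        (x₀ :: l) ++ ((d.1 :: d.2) ++ (e.1 :: e.2)) ++ flat rest := by
      intro d e; simp [flat, List.append_assoc]
    have hnd : (flat ((x₀, l) :: b₁ :: b₂ :: rest)).Nodup := by
      rw [flat_cons, List.nodup_append]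
      refine ⟨hl1, hn1, fun a ha b hb e => ?_⟩
      subst e
      rw [← List.mem_toFinset, hl2] at ha
      rw [← List.mem_toFinset, hf1, Finset.mem_compl] at hb
      exact hb ha
    obtain ⟨σ₀, hσ₀, he⟩ := odd_conj_of_exchange (x₀ :: l) (b₁.1 :: b₁.2) (b₂.1 :: b₂.2) (flat rest)
      (hfl b₁ b₂ ▸ hnd) (hlen b₁ (by simp)) (hlen b₂ (by simp))
    rw [← hfl, ← hfl] at he
    refine isConj_even u _ w (σ * σ₀⁻¹) hgood' ?_ ?_
    · rw [← hσ, he]; group
    · rw [map_mul, map_inv, hs, hσ₀]; decide

end CfsgLib.Invol.AltPair
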