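import Mathlib
import Cfsg.Agent.Lib.Invol.AltPair.Good

/-!
# Good pairs of `3`-elements on five or six points
-/

set_option autoImplicit false

namespace CfsgLib.Invol.AltPair

open Equiv Equiv.Perm

variable {α : Type*} [Fintype α] [DecidableEq α]

/-- Elements of `3`-power order on at most eight points. -/
theorem small_cycleType (w : Perm α) (hw : w ≠ 1) (how : ∃ m, orderOf w = 3 ^ m)
    (hcard : Fintype.card α ≤ 8) :
    ∃ r, 1 ≤ r ∧ w.cycleType = Multiset.replicate r 3 ∧ w.support.card = r * 3 := by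
  obtain ⟨m, hm⟩ := how
  have hall : ∀ c ∈ w.cycleType, c = 3 := by
    intro c hc
    obtain ⟨j, -, rfl⟩ := (Nat.dvd_prime_pow (by norm_num)).1 (hm ▸ Perm.dvd_of_mem_cycleType hc)
    have h2 := Perm.two_le_of_mem_cycleType hc
    have h8 : 3 ^ j ≤ 8 := le_trans (le_of_le_of_eq (Multiset.le_sum_of_mem hc) (Perm.sum_cycleType w))
      (le_trans (Finset.card_le_univ _) hcard)
    rcases j with _ | _ | j
    · simp at h2
    · rfl
    · rw [pow_succ, pow_succ] at h8
      have := Nat.one_le_pow j 3 (by norm_num)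
      omega
  have hrep := Multiset.eq_replicate_card.2 hall
  refine ⟨w.cycleType.card, ?_, hrep, ?_⟩
  · rw [Nat.one_le_iff_ne_zero]
    intro e
    exact hw (Perm.cycleType_eq_zero.1 (Multiset.card_eq_zero.1 e))
  · conv_lhs => rw [← Perm.sum_cycleType, hrep]
    simp

/-- An element of the class of `v` is an even conjugate of `v`. -/
theorem even_conj (v w τ : Perm α) (hc : v.cycleType = w.cycleType) (hτ : Perm.sign τ = -1)
    (hcomm : τ * v = v * τ) : ∃ σ : Perm α, Perm.sign σ = 1 ∧ w = σ * v * σ⁻¹ := by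
  obtain ⟨σ, hσ⟩ := isConj_iff.1 (Perm.isConj_iff_cycleType_eq.2 hc)
  rcases Int.units_eq_one_or (Perm.sign σ) with hs | hs
  · exact ⟨σ, hs, hσ.symm⟩
  · refine ⟨σ * τ, by rw [map_mul, hs, hτ]; decide, ?_⟩
    rw [← hσ, show σ * τ * v * (σ * τ)⁻¹ = σ * (τ * v) * τ⁻¹ * σ⁻¹ by group, hcomm]
    group

theorem conj_of_card (v w τ : Perm α) (hcard : Fintype.card α ≤ 8) (hv : orderOf v = 3) (hw : w ≠ 1)
    (how : ∃ m, orderOf w = 3 ^ m) (hs : v.support.card = w.support.card) (hτ : Perm.sign τ = -1)
    (hcomm : τ * v = v * τ) : ∃ σ : Perm α, Perm.sign σ = 1 ∧ w = σ * v * σ⁻¹ := by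
  have hv1 : v ≠ 1 := fun e => by simp [e] at hv
  obtain ⟨r, -, h1, h2⟩ := small_cycleType v hv1 ⟨1, by simpa using hv⟩ hcard
  obtain ⟨r', -, h1', h2'⟩ := small_cycleType w hw how hcard
  have : r = r' := by omega
  exact even_conj v w τ (by rw [h1, h1', this]) hτ hcomm

/-- Transfer from representatives. -/
theorem good_of_rep {p : ℕ} (u₀ v₀ u w : Perm α) (h : Good p u₀ v₀)
    (hu : ∃ σ : Perm α, Perm.sign σ = 1 ∧ u = σ * u₀ * σ⁻¹)
    (hw : ∃ σ : Perm α, Perm.sign σ = 1 ∧ w = σ * v₀ * σ⁻¹) : Good p u w := by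
  obtain ⟨σ, hσ, rfl⟩ := hu
  obtain ⟨τ, hτ, rfl⟩ := hw
  exact (h.conj_left σ hσ).conj_right τ hτ

/-- A pair with product of order five and a commutator certificate. -/
theorem good_of_cert {n : ℕ} (u v : Perm (Fin n)) (hu : u ≠ 1) (h1 : u * v ≠ 1) (h5 : (u * v) ^ 5 = 1)
    (h : ∃ s ∈ Subgroup.closure {u, v}, ∃ t ∈ Subgroup.closure ({u, v} : Set (Perm (Fin n))),
      ∃ s' ∈ Subgroup.closure ({u, v} : Set (Perm (Fin n))),
      ∃ t' ∈ Subgroup.closure ({u, v} : Set (Perm (Fin n))),
      u = s * t * s⁻¹ * t⁻¹ ∧ v = s' * t' * s'⁻¹ * t'⁻¹) : Good 3 u v := by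
  haveI : Fact (Nat.Prime 5) := ⟨by norm_num⟩
  refine ⟨1, map_one _, ?_, ?_⟩
  · rw [one_mul, inv_one, mul_one]
    exact not_pow_of_prime (q := 5) (by norm_num) (by norm_num) (by norm_num) (orderOf_eq_prime h5 h1)
  · rw [one_mul, inv_one, mul_one]
    exact not_solvable_of_cert u v hu h

/-- A certificate with short words. -/
theorem good_of_words {n : ℕ} (u v : Perm (Fin n)) (hu : u ≠ 1) (h1 : u * v ≠ 1) (h5 : (u * v) ^ 5 = 1)
    (e : u = v * u * u * v * (v * u * v) * (v * u * u * v)⁻¹ * (v * u * v)⁻¹)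
    (e' : v = u * v * u * u * (u * v * u) * (u * v * u * u)⁻¹ * (u * v * u)⁻¹) : Good 3 u v := by
  refine good_of_cert u v hu h1 h5 ?_
  have mu : u ∈ Subgroup.closure ({u, v} : Set (Perm (Fin n))) := Subgroup.subset_closure (by simp)
  have mv : v ∈ Subgroup.closure ({u, v} : Set (Perm (Fin n))) := Subgroup.subset_closure (by simp)
  exact ⟨_, mul_mem (mul_mem (mul_mem mv mu) mu) mv, _, mul_mem (mul_mem mv mu) mv,
    _, mul_mem (mul_mem (mul_mem mu mv) mu) mu, _, mul_mem (mul_mem mu mv) mu, e, e'⟩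

/-- A certificate with long words. -/
theorem good_of_words' {n : ℕ} (u v : Perm (Fin n)) (hu : u ≠ 1) (h1 : u * v ≠ 1) (h5 : (u * v) ^ 5 = 1)
    (e : u = v * u * v * u * u * v * u * v * v * u * (v * u * v * u * u * v * u * v * v)⁻¹ * u⁻¹)
    (e' : v = u * u * v * u * v * v * u * v * u * v * (u * u * v * u * v * v * u * v * u)⁻¹ * v⁻¹) :
    Good 3 u v := by
  refine good_of_cert u v hu h1 h5 ?_
  have mu : u ∈ Subgroup.closure ({u, v} : Set (Perm (Fin n))) := Subgroup.subset_closure (by simp)
  have mv : v ∈ Subgroup.closure ({u, v} : Set (Perm (Fin n))) := Subgroup.subset_closure (by simp)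
  exact ⟨_, mul_mem (mul_mem (mul_mem (mul_mem (mul_mem (mul_mem (mul_mem (mul_mem mv mu) mv) mu) mu) mv) mu) mv) mv,
    _, mu, _,
    mul_mem (mul_mem (mul_mem (mul_mem (mul_mem (mul_mem (mul_mem (mul_mem mu mu) mv) mu) mv) mv) mu) mv) mu,
    _, mv, e, e'⟩

theorem good_five (u w : Perm (Fin 5)) (hu : u ≠ 1) (hw : w ≠ 1) (hou : ∃ m, orderOf u = 3 ^ m)
    (how : ∃ m, orderOf w = 3 ^ m) : Good 3 u w := by
  haveI : Fact (Nat.Prime 3) := ⟨by norm_num⟩
  set a : Perm (Fin 5) := [0, 1, 2].formPerm with ha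
  set b : Perm (Fin 5) := [2, 3, 4].formPerm with hb
  have hu3 : u.support.card = 3 := by
    obtain ⟨r, hr, -, h⟩ := small_cycleType u hu hou (by simp)
    have := Finset.card_le_univ u.support
    simp at this; omega
  have hw3 : w.support.card = 3 := by
    obtain ⟨r, hr, -, h⟩ := small_cycleType w hw how (by simp)
    have := Finset.card_le_univ w.support
    simp at this; omega
  refine good_of_rep a b u w ?_ ?_ ?_
  · exact good_of_words a b (by decide +kernel) (by decide +kernel) (by decide +kernel) (by decide +kernel) (by decide +kernel)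
  · exact conj_of_card a u (swap 3 4) (by simp) (orderOf_eq_prime (by decide +kernel) (by decide +kernel)) hu hou
      (by rw [hu3]; decide +kernel) (Perm.sign_swap (by decide +kernel)) (by decide +kernel)
  · exact conj_of_card b w (swap 0 1) (by simp) (orderOf_eq_prime (by decide +kernel) (by decide +kernel)) hw how
      (by rw [hw3]; decide +kernel) (Perm.sign_swap (by decide +kernel)) (by decide +kernel)

theorem good_six (u w : Perm (Fin 6)) (hu : u ≠ 1) (hw : w ≠ 1) (hou : ∃ m, orderOf u = 3 ^ m)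
    (how : ∃ m, orderOf w = 3 ^ m) : Good 3 u w := by
  haveI : Fact (Nat.Prime 3) := ⟨by norm_num⟩
  have hcases : ∀ x : Perm (Fin 6), x ≠ 1 → (∃ m, orderOf x = 3 ^ m) →
      x.support.card = 3 ∨ x.support.card = 6 := by
    intro x hx hox
    obtain ⟨r, hr, -, h⟩ := small_cycleType x hx hox (by simp)
    have := Finset.card_le_univ x.support
    simp at this; omega
  set A : Perm (Fin 6) := [0, 1, 2].formPerm * [3, 4, 5].formPerm with hA
  have hsA : ∀ x : Perm (Fin 6), x ≠ 1 → (∃ m, orderOf x = 3 ^ m) → x.support.card = 6 →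
      ∃ σ : Perm (Fin 6), Perm.sign σ = 1 ∧ x = σ * A * σ⁻¹ := fun x hx hox h6 =>
    conj_of_card A x (swap 0 3 * swap 1 4 * swap 2 5) (by simp) (orderOf_eq_prime (by decide +kernel) (by decide +kernel))
      hx hox (by rw [h6]; decide +kernel)
      (by rw [map_mul, map_mul, Perm.sign_swap (by decide +kernel), Perm.sign_swap (by decide +kernel),
        Perm.sign_swap (by decide +kernel)]; decide +kernel) (by decide +kernel)
  have mixed : ∀ x y : Perm (Fin 6), x ≠ 1 → (∃ m, orderOf x = 3 ^ m) → x.support.card = 6 → y ≠ 1 →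
      (∃ m, orderOf y = 3 ^ m) → y.support.card = 3 → Good 3 x y := by
    intro x y hx hox hx6 hy hoy hy3
    set b : Perm (Fin 6) := [0, 2, 3].formPerm with hb
    refine good_of_rep A b x y ?_ (hsA x hx hox hx6) ?_
    · exact good_of_words' A b (by decide +kernel) (by decide +kernel) (by decide +kernel) (by decide +kernel) (by decide +kernel)
    · exact conj_of_card b y (swap 1 4) (by simp) (orderOf_eq_prime (by decide +kernel) (by decide +kernel)) hy hoy
        (by rw [hy3]; decide +kernel) (Perm.sign_swap (by decide +kernel)) (by decide +kernel)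
  rcases hcases u hu hou with h3 | h6
  · rcases hcases w hw how with g3 | g6
    · set a : Perm (Fin 6) := [0, 1, 2].formPerm with ha
      set b : Perm (Fin 6) := [2, 3, 4].formPerm with hb
      refine good_of_rep a b u w ?_ ?_ ?_
      · exact good_of_words a b (by decide +kernel) (by decide +kernel) (by decide +kernel) (by decide +kernel) (by decide +kernel)
      · exact conj_of_card a u (swap 3 4) (by simp) (orderOf_eq_prime (by decide +kernel) (by decide +kernel)) hu hou
          (by rw [h3]; decide +kernel) (Perm.sign_swap (by decide +kernel)) (by decide +kernel)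
      · exact conj_of_card b w (swap 0 1) (by simp) (orderOf_eq_prime (by decide +kernel) (by decide +kernel)) hw how
          (by rw [g3]; decide +kernel) (Perm.sign_swap (by decide +kernel)) (by decide +kernel)
    · exact (mixed w u hw how g6 hu hou h3).symm
  · rcases hcases w hw how with g3 | g6
    · exact mixed u w hu hou h6 hw how g3
    · set b : Perm (Fin 6) := [0, 1, 3].formPerm * [2, 5, 4].formPerm with hb
      refine good_of_rep A b u w ?_ (hsA u hu hou h6) ?_
      · exact good_of_words A b (by decide +kernel) (by decide +kernel) (by decide +kernel) (by decide +kernel) (by decide +kernel)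
      · exact conj_of_card b w (swap 0 2 * swap 1 5 * swap 3 4) (by simp)
          (orderOf_eq_prime (by decide +kernel) (by decide +kernel)) hw how (by rw [g6]; decide +kernel)
          (by rw [map_mul, map_mul, Perm.sign_swap (by decide +kernel), Perm.sign_swap (by decide +kernel),
            Perm.sign_swap (by decide +kernel)]; decide +kernel) (by decide +kernel)

end CfsgLib.Invol.AltPair
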