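import Mathlib
import Cfsg.Agent.Lib.Invol.AltPair.Interval
import Cfsg.Agent.Lib.Invol.AltPair.Small

/-!
# Every two `p`-elements form a good pair
-/

set_option autoImplicit false

namespace CfsgLib.Invol.AltPair

open Equiv Equiv.Perm

variable {α : Type*} [Fintype α] [DecidableEq α]

theorem inv_of_maps (w : Perm α) (T : Finset α) (h : ∀ x ∈ T, w x ∈ T) : ∀ x, x ∈ T ↔ w x ∈ T := by
  intro x
  refine ⟨h x, fun hx => ?_⟩
  have he : T.image w = T :=
    Finset.eq_of_subset_of_card_le (Finset.image_subset_iff.2 h)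
      (by rw [Finset.card_image_of_injective _ w.injective])
  rw [← he] at hx
  obtain ⟨y, hy, e⟩ := Finset.mem_image.1 hx
  exact w.injective e ▸ hy

theorem orbit_card {p k : ℕ} [Fact p.Prime] (w : Perm α) (x : α) (h1 : (w ^ (p ^ k)) x ≠ x)
    (h2 : (w ^ (p ^ (k + 1))) x = x) :
    ∃ T : Finset α, T.card = p ^ (k + 1) ∧ (∀ y, y ∈ T ↔ w y ∈ T) ∧ x ∈ T ∧ w x ≠ x ∧
      ∀ y ∈ T, w.SameCycle x y := by
  have hper : Function.minimalPeriod w x = p ^ (k + 1) := by
    refine Function.minimalPeriod_eq_prime_pow ?_ ?_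
    · simpa [Function.IsPeriodicPt, Function.IsFixedPt, Perm.coe_pow] using h1
    · simpa [Function.IsPeriodicPt, Function.IsFixedPt, Perm.coe_pow] using h2
  have hpos : 0 < p ^ (k + 1) := pow_pos (Fact.out : p.Prime).pos _
  refine ⟨(Finset.range (p ^ (k + 1))).image fun i => (w ^ i) x, ?_, ?_, ?_, ?_, ?_⟩
  · rw [Finset.card_image_of_injOn, Finset.card_range]
    intro i hi j hj e
    simp only [Finset.coe_range, Set.mem_Iio] at hi hj
    exact Function.iterate_injOn_Iio_minimalPeriod (f := w) (x := x) (hper.symm ▸ hi) (hper.symm ▸ hj)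
      (by simpa [Perm.coe_pow] using e)
  · refine inv_of_maps w _ fun y hy => ?_
    obtain ⟨i, hi, rfl⟩ := Finset.mem_image.1 hy
    rw [Finset.mem_range] at hi
    rw [← Perm.mul_apply, ← pow_succ']
    rcases Nat.lt_or_ge (i + 1) (p ^ (k + 1)) with h | h
    · exact Finset.mem_image.2 ⟨i + 1, Finset.mem_range.2 h, rfl⟩
    · refine Finset.mem_image.2 ⟨0, Finset.mem_range.2 hpos, ?_⟩
      rw [show i + 1 = p ^ (k + 1) by omega, h2]; rfl
  · exact Finset.mem_image.2 ⟨0, Finset.mem_range.2 hpos, rfl⟩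
  · intro e
    exact h1 (Perm.pow_apply_eq_self_of_apply_eq_self e _)
  · intro y hy
    obtain ⟨i, -, rfl⟩ := Finset.mem_image.1 hy
    exact ⟨i, by rw [zpow_natCast]⟩

theorem exists_invariant {p : ℕ} [Fact p.Prime] (w : Perm α) : ∀ (k : ℕ) (U : Finset α),
    (∀ x, x ∈ U ↔ w x ∈ U) → (∀ x ∈ U, (w ^ (p ^ k)) x = x) → p ^ k ≤ U.card →
      ∃ T ⊆ U, T.card = p ^ k ∧ (∀ x, x ∈ T ↔ w x ∈ T) ∧
        ((∃ x ∈ U, w x ≠ x) → ∃ x ∈ T, w x ≠ x) := by
  intro k
  induction k with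
  | zero =>
    intro U _ hfix hcard
    obtain ⟨x, hx⟩ := Finset.card_pos.1 (show 0 < U.card by rw [pow_zero] at hcard; omega)
    have hall : ∀ y ∈ U, w y = y := fun y hy => by simpa using hfix y hy
    refine ⟨{x}, Finset.singleton_subset_iff.2 hx, by simp, inv_of_maps w _ fun y hy => ?_, ?_⟩
    · rw [Finset.mem_singleton] at hy ⊢; rw [hy, hall x hx]
    · rintro ⟨y, hy, h⟩; exact absurd (hall y hy) h
  | succ k ih =>
    intro U hU hfix hcard
    by_cases hbig : ∃ x ∈ U, (w ^ (p ^ k)) x ≠ x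
    · obtain ⟨x, hx, h1⟩ := hbig
      obtain ⟨T, hT, hTi, hxT, hwx, hsame⟩ := orbit_card w x h1 (hfix x hx)
      refine ⟨T, fun y hy => ?_, hT, hTi, fun _ => ⟨x, hxT, hwx⟩⟩
      obtain ⟨i, -, rfl⟩ := (hsame y hy).exists_pow_eq'
      clear hy
      induction i with
      | zero => simpa using hx
      | succ i ihi => rw [pow_succ', Perm.mul_apply]; exact (hU _).1 ihi
    · push Not at hbig
      have key : ∀ i ≤ p, ∃ T ⊆ U, T.card = i * p ^ k ∧ (∀ x, x ∈ T ↔ w x ∈ T) ∧
          (1 ≤ i → (∃ x ∈ U, w x ≠ x) → ∃ x ∈ T, w x ≠ x) := by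
        intro i
        induction i with
        | zero => exact fun _ => ⟨∅, by simp, by simp, by simp, by simp⟩
        | succ i ihi =>
          intro hi
          obtain ⟨T, hTU, hT, hTi, hTm⟩ := ihi (by omega)
          have hinv : ∀ x, x ∈ U \ T ↔ w x ∈ U \ T := fun x => by
            rw [Finset.mem_sdiff, Finset.mem_sdiff, hU x, hTi x]
          have hle : p ^ k ≤ (U \ T).card := by
            rw [Finset.card_sdiff_of_subset hTU, hT]
            have : (i + 1) * p ^ k ≤ p ^ (k + 1) := by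
              rw [pow_succ, mul_comm (p ^ k)]; exact Nat.mul_le_mul_right _ hi
            rw [Nat.succ_mul] at this
            omega
          obtain ⟨T', hT'U, hT', hT'i, hT'm⟩ :=
            ih (U \ T) hinv (fun x hx => hbig x (Finset.mem_sdiff.1 hx).1) hle
          refine ⟨T ∪ T', Finset.union_subset hTU (hT'U.trans Finset.sdiff_subset), ?_,
            fun x => by rw [Finset.mem_union, Finset.mem_union, hTi x, hT'i x], fun _ hm => ?_⟩
          · rw [Finset.card_union_of_disjoint, hT, hT', Nat.succ_mul]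
            exact Finset.disjoint_sdiff.mono_right hT'U
          · rcases Nat.eq_zero_or_pos i with rfl | hi0
            · have : T = ∅ := Finset.card_eq_zero.1 (by simpa using hT)
              subst this
              obtain ⟨x, hx, h⟩ := hT'm (by simpa using hm)
              exact ⟨x, Finset.mem_union_right _ hx, h⟩
            · obtain ⟨x, hx, h⟩ := hTm hi0 hm
              exact ⟨x, Finset.mem_union_left _ hx, h⟩
      obtain ⟨T, hTU, hT, hTi, hTm⟩ := key p le_rfl
      exact ⟨T, hTU, by rw [hT, pow_succ, mul_comm], hTi, hTm (Fact.out : p.Prime).one_le⟩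

/-- The stabiliser of a finite set. -/
def setStab (S : Finset α) : Subgroup (Perm α) where
  carrier := {g | ∀ x, x ∈ S ↔ g x ∈ S}
  mul_mem' := fun {a b} ha hb x => (hb x).trans (ha (b x))
  one_mem' := fun x => Iff.rfl
  inv_mem' := fun {a} ha x => by rw [ha (a⁻¹ x), show a (a⁻¹ x) = x from a.apply_symm_apply x]

/-- The restriction to an invariant set. -/
def setStabRes (S : Finset α) : setStab S →* Perm {x // x ∈ S} where
  toFun g := g.1.subtypePerm fun x => (g.2 x).symm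
  map_one' := by ext; rfl
  map_mul' a b := by ext; rfl

/-- Reduction to invariant sets. -/
theorem good_restrict {p : ℕ} (hp : p.Prime) (u w : Perm α) (hu : ∃ m, orderOf u = p ^ m)
    (hw : ∃ m, orderOf w = p ^ m) (S T : Finset α) (hcard : T.card = S.card) (h2 : 2 ≤ S.card)
    (hS : ∀ x, x ∈ S ↔ u x ∈ S) (hT : ∀ x, x ∈ T ↔ w x ∈ T) (hSu : ∃ x ∈ S, u x ≠ x)
    (hTw : ∃ x ∈ T, w x ≠ x)
    (IH : ∀ a b : Perm {x // x ∈ S}, a ≠ 1 → b ≠ 1 → (∃ m, orderOf a = p ^ m) →
      (∃ m, orderOf b = p ^ m) → Good p a b) : Good p u w := by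
  classical
  obtain ⟨σ, hσ, hσT⟩ : ∃ σ : Perm α, Perm.sign σ = 1 ∧ ∀ x, x ∈ T ↔ σ x ∈ S := by
    set σ₀ := (Finset.equivOfCardEq hcard).extendSubtype with hσ₀
    have hmap : ∀ x ∈ T, σ₀ x ∈ S := fun x hx => Equiv.extendSubtype_mem _ x hx
    have hiff : ∀ x, x ∈ T ↔ σ₀ x ∈ S := by
      intro x
      refine ⟨hmap x, fun hx => ?_⟩
      have he : T.image σ₀ = S := Finset.eq_of_subset_of_card_le (Finset.image_subset_iff.2 hmap)
        (by rw [Finset.card_image_of_injective _ σ₀.injective, hcard])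
      rw [← he] at hx
      obtain ⟨y, hy, e⟩ := Finset.mem_image.1 hx
      exact σ₀.injective e ▸ hy
    rcases Int.units_eq_one_or (Perm.sign σ₀) with h | h
    · exact ⟨σ₀, h, hiff⟩
    · obtain ⟨a, ha, b, hb, hab⟩ := Finset.one_lt_card.1 h2
      refine ⟨swap a b * σ₀, by rw [map_mul, h, Perm.sign_swap hab]; decide, fun x => ?_⟩
      rw [hiff x, Perm.mul_apply, swap_apply_def]
      split_ifs with h1 h1'
      · rw [h1]; exact iff_of_true ha hb
      · rw [h1']; exact iff_of_true hb ha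
      · exact Iff.rfl
  set w₁ := σ * w * σ⁻¹ with hw₁
  have hw₁S : ∀ x, x ∈ S ↔ w₁ x ∈ S := by
    intro x
    obtain ⟨y, rfl⟩ := σ.surjective x
    rw [hw₁, Perm.mul_apply, Perm.mul_apply, show σ⁻¹ (σ y) = y from σ.symm_apply_apply y, ← hσT, ← hσT]
    exact hT y
  set K := setStab S with hK
  set res := setStabRes S with hres_def
  have hres : ∀ g : K, (∃ m, orderOf (g : Perm α) = p ^ m) → ∃ m, orderOf (res g) = p ^ m := by
    rintro g ⟨m, hm⟩
    obtain ⟨j, -, hj⟩ := (Nat.dvd_prime_pow hp).1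
      ((Subgroup.orderOf_coe g).symm.trans hm ▸ orderOf_map_dvd res g)
    exact ⟨j, hj⟩
  obtain ⟨x, hx, hux⟩ := hSu
  obtain ⟨y, hy, hwy⟩ := hTw
  obtain ⟨g, hg, ho, hs⟩ := IH (res ⟨u, hS⟩) (res ⟨w₁, hw₁S⟩)
    (fun e => hux (congrArg (fun f : Perm {x // x ∈ S} => (f ⟨x, hx⟩).1) e))
    (fun e => by
      have := congrArg (fun f : Perm {x // x ∈ S} => (f ⟨σ y, (hσT y).1 hy⟩).1) e
      change w₁ (σ y) = σ y at this
      rw [hw₁, Perm.mul_apply, Perm.mul_apply, show σ⁻¹ (σ y) = y from σ.symm_apply_apply y] at this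
      exact hwy (σ.injective this))
    (hres _ hu) (hres _ (by
      obtain ⟨m, hm⟩ := hw
      exact ⟨m, (MulEquiv.orderOf_eq (MulAut.conj σ) w).trans hm⟩))
  have hgK : ∀ x, x ∈ S ↔ Perm.ofSubtype g x ∈ S := by
    intro x
    by_cases hx : x ∈ S
    · rw [Perm.ofSubtype_apply_of_mem g hx]; exact iff_of_true hx (g ⟨x, hx⟩).2
    · rw [Perm.ofSubtype_apply_of_not_mem g hx]
  have hrg : res ⟨Perm.ofSubtype g, hgK⟩ = g := by
    exact Equiv.ext fun x => Subtype.ext (Perm.ofSubtype_apply_coe g x)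
  have hmain : Good p u w₁ := by
    refine ⟨Perm.ofSubtype g, (Perm.sign_ofSubtype g).trans hg, ?_, ?_⟩
    · rintro ⟨m, hm⟩
      apply ho
      have := hres (⟨u, hS⟩ * (⟨_, hgK⟩ * ⟨w₁, hw₁S⟩ * (⟨_, hgK⟩ : K)⁻¹))
        ⟨m, by simp only [Subgroup.coe_mul, Subgroup.coe_inv]; exact hm⟩
      rw [map_mul res, map_mul res, map_mul res, map_inv res, hrg] at this
      exact this
    · intro hsol
      apply hs
      set w₂ : K := ⟨_, hgK⟩ * ⟨w₁, hw₁S⟩ * (⟨_, hgK⟩ : K)⁻¹ with hw₂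
      set Kc := Subgroup.closure ({⟨u, hS⟩, w₂} : Set K) with hKc
      have h1 : Kc.map K.subtype =
          Subgroup.closure ({u, Perm.ofSubtype g * w₁ * (Perm.ofSubtype g)⁻¹} : Set (Perm α)) := by
        rw [hKc, MonoidHom.map_closure, Set.image_pair]; rfl
      have h3 : Kc.map res = Subgroup.closure {res ⟨u, hS⟩, g * res ⟨w₁, hw₁S⟩ * g⁻¹} := by
        rw [hKc, MonoidHom.map_closure, Set.image_pair, hw₂, map_mul, map_mul, map_inv, hrg]
      rw [← h1] at hsol
      haveI := hsol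
      haveI : Group.IsSolvable Kc := Group.isSolvable_of_isSolvable_injective
        (f := (Kc.equivMapOfInjective K.subtype K.subtype_injective).toMonoidHom)
        (Kc.equivMapOfInjective K.subtype K.subtype_injective).injective
      rw [← h3]
      exact Group.isSolvable_of_surjective (res.subgroupMap_surjective Kc)
  have := hmain.conj_right σ⁻¹ (by rw [map_inv, hσ, inv_one])
  rwa [hw₁, show σ⁻¹ * (σ * w * σ⁻¹) * σ⁻¹⁻¹ = w by group] at this

theorem good_three_small {β : Type*} [Fintype β] [DecidableEq β] (h5 : 5 ≤ Fintype.card β)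
    (h6 : Fintype.card β ≤ 6) (u w : Perm β) (hu : u ≠ 1) (hw : w ≠ 1) (hou : ∃ m, orderOf u = 3 ^ m)
    (how : ∃ m, orderOf w = 3 ^ m) : Good 3 u w := by
  obtain ⟨e⟩ : Nonempty (β ≃ Fin (Fintype.card β)) := ⟨Fintype.equivFin β⟩
  have key : ∀ {n : ℕ} (e : β ≃ Fin n), (∀ a b : Perm (Fin n), a ≠ 1 → b ≠ 1 → (∃ m, orderOf a = 3 ^ m) →
      (∃ m, orderOf b = 3 ^ m) → Good 3 a b) → Good 3 u w := by
    intro n e h
    have := (h (e.permCongrHom u) (e.permCongrHom w)
      (fun h => hu (e.permCongrHom.injective (h.trans (map_one _).symm)))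
      (fun h => hw (e.permCongrHom.injective (h.trans (map_one _).symm)))
      (by rwa [MulEquiv.orderOf_eq]) (by rwa [MulEquiv.orderOf_eq])).map e.symm
    have back : ∀ f : Perm β, e.symm.permCongrHom (e.permCongrHom f) = f := fun f => by
      ext x; simp [Equiv.permCongrHom]
    rwa [back, back] at this
  rcases (show Fintype.card β = 5 ∨ Fintype.card β = 6 by omega) with h | h
  · exact key (e.trans (finCongr h)) good_five
  · exact key (e.trans (finCongr h)) good_six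

/-- Two nontrivial `p`-elements on at least five points, `p` odd. -/
theorem good_of_prime_pow (p : ℕ) (hp : p.Prime) (hp3 : 3 ≤ p) (N : ℕ) :
    ∀ (β : Type) [Fintype β] [DecidableEq β], Fintype.card β = N → 5 ≤ N → ∀ u w : Perm β, u ≠ 1 → w ≠ 1 →
      (∃ m, orderOf u = p ^ m) → (∃ m, orderOf w = p ^ m) → Good p u w := by
  haveI : Fact p.Prime := ⟨hp⟩
  induction N using Nat.strong_induction_on with
  | _ N IH =>
  intro β _ _ hN h5
  have red : ∀ u w : Perm β, (∃ m, orderOf u = p ^ m) → (∃ m, orderOf w = p ^ m) →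
      ∀ S T : Finset β, T.card = S.card → 5 ≤ S.card → S.card < N → (∀ x, x ∈ S ↔ u x ∈ S) →
      (∀ x, x ∈ T ↔ w x ∈ T) → (∃ x ∈ S, u x ≠ x) → (∃ x ∈ T, w x ≠ x) → Good p u w :=
    fun u w hou how S T hc h5' hlt hS hT hSu hTw =>
      good_restrict hp u w hou how S T hc (by omega) hS hT hSu hTw
        (IH S.card hlt {x // x ∈ S} (Fintype.card_coe S) h5')
  suffices H : ∀ (u w : Perm β) (a b : ℕ), u ≠ 1 → w ≠ 1 → orderOf u = p ^ a → orderOf w = p ^ b →
      b ≤ a → Good p u w by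
    rintro u w hu hw ⟨a, ha⟩ ⟨b, hb⟩
    rcases Nat.le_total b a with h | h
    · exact H u w a b hu hw ha hb h
    · exact (H w u b a hw hu hb ha h).symm
  intro u w a b hu hw ha hb hba
  obtain ⟨a', rfl⟩ : ∃ a', a = a' + 1 := by
    refine ⟨a - 1, ?_⟩
    rcases Nat.eq_zero_or_pos a with rfl | h
    · exact absurd (orderOf_eq_one_iff.1 (by simpa using ha)) hu
    · omega
  have hufix : ∀ x, (u ^ (p ^ (a' + 1))) x = x := fun x => by rw [← ha, pow_orderOf_eq_one]; rfl
  have hwfix : ∀ x, (w ^ (p ^ (a' + 1))) x = x := fun x => by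
    rw [orderOf_dvd_iff_pow_eq_one.1 (hb ▸ pow_dvd_pow p hba)]; rfl
  obtain ⟨x, hx⟩ : ∃ x, (u ^ (p ^ a')) x ≠ x := by
    by_contra hno
    push Not at hno
    have hd : orderOf u ∣ p ^ a' := orderOf_dvd_iff_pow_eq_one.2 (Equiv.ext hno)
    rw [ha, Nat.pow_dvd_pow_iff_le_right hp.one_lt] at hd
    omega
  obtain ⟨S, hS, hSi, hxS, hux, hsame⟩ := orbit_card u x hx (hufix x)
  obtain ⟨y, hy⟩ : ∃ y, w y ≠ y := by
    by_contra hno
    push Not at hno
    exact hw (Equiv.ext hno)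
  have hSle : p ^ (a' + 1) ≤ N := hS ▸ hN ▸ Finset.card_le_univ S
  rcases Nat.lt_or_ge (p ^ (a' + 1)) 5 with hlt | hge
  · -- exponent three
    have ha0 : a' = 0 := by
      rcases Nat.eq_zero_or_pos a' with h | h
      · exact h
      · have : 3 ^ 2 ≤ p ^ (a' + 1) :=
          le_trans (Nat.pow_le_pow_left hp3 2) (Nat.pow_le_pow_right hp.pos (by omega))
        omega
    subst ha0
    obtain rfl : p = 3 := by
      rw [zero_add, pow_one] at hlt
      rcases Nat.lt_or_ge p 4 with h | h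
      · omega
      · interval_cases p; norm_num at hp
    rcases Nat.lt_or_ge N 7 with hN7 | hN7
    · exact good_three_small (by omega) (by omega) u w hu hw ⟨_, ha⟩ ⟨_, hb⟩
    have six : ∀ v : Perm β, (∀ z, (v ^ (3 ^ (0 + 1))) z = z) → (∃ z, v z ≠ z) →
        ∃ R : Finset β, R.card = 6 ∧ (∀ z, z ∈ R ↔ v z ∈ R) ∧ ∃ z ∈ R, v z ≠ z := by
      rintro v hv ⟨z, hz⟩
      obtain ⟨T₁, -, h1, h1i, h1m⟩ := exists_invariant v 1 Finset.univ (by simp) (fun z _ => hv z)
        (by rw [Finset.card_univ, hN]; omega)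
      obtain ⟨T₂, h2s, h2, h2i, -⟩ := exists_invariant v 1 T₁ᶜ (fun z => by simp [h1i z]) (fun z _ => hv z)
        (by rw [Finset.card_compl, hN, h1]; omega)
      obtain ⟨z', hz', hz''⟩ := h1m ⟨z, Finset.mem_univ z, hz⟩
      refine ⟨T₁ ∪ T₂, ?_, fun z => by rw [Finset.mem_union, Finset.mem_union, h1i z, h2i z],
        z', Finset.mem_union_left _ hz', hz''⟩
      rw [Finset.card_union_of_disjoint, h1, h2]
      · norm_num
      · exact (Finset.disjoint_left.2 fun z hz hz₂ => Finset.mem_compl.1 (h2s hz₂) hz)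
    obtain ⟨R, hR, hRi, hRm⟩ := six u hufix ⟨x, hux⟩
    obtain ⟨R', hR', hR'i, hR'm⟩ := six w hwfix ⟨y, hy⟩
    exact red u w ⟨_, ha⟩ ⟨_, hb⟩ R R' (hR'.trans hR.symm) (by omega) (by omega) hRi hR'i hRm hR'm
  rcases Nat.lt_or_ge (p ^ (a' + 1)) N with hlt | hge'
  · obtain ⟨T, -, hT, hTi, hTm⟩ := exists_invariant w (a' + 1) Finset.univ (by simp) (fun z _ => hwfix z)
      (by rw [Finset.card_univ, hN]; omega)
    exact red u w ⟨_, ha⟩ ⟨_, hb⟩ S T (hT.trans hS.symm) (by omega) (by omega) hSi hTi ⟨x, hxS, hux⟩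
      (hTm ⟨y, Finset.mem_univ y, hy⟩)
  -- `u` is a full cycle
  have hNp : Fintype.card β = p ^ (a' + 1) := by omega
  have hSu : S = Finset.univ := Finset.eq_univ_of_card S (by rw [hS, hNp])
  have hcyc : u.IsCycle := ⟨x, hux, fun z _ => hsame z (hSu ▸ Finset.mem_univ z)⟩
  have husupp : u.support = Finset.univ :=
    Finset.eq_univ_of_forall fun z => Perm.mem_support.2 fun e =>
      hux (((hsame z (hSu ▸ Finset.mem_univ z)).apply_eq_self_iff).2 e)
  by_cases hwc : w.IsCycle ∧ w.support = Finset.univ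
  · exact good_two_cycles hp hp3 hNp (by omega) u w hcyc husupp hwc.1 hwc.2
  · exact good_cycle_other hp hp3 hNp u w hcyc husupp hw ⟨_, hb⟩ hwc

end CfsgLib.Invol.AltPair
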